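import Groth.Agent.H9RP.AffGen
import Groth.Agent.StModLib.AffineMorExact
import Groth.Agent.QCoh.LocFree
import Groth.Agent.CanonEval.Push
import Groth.Agent.H9Gen.Push
import Groth.Agent.LimModLib.FP
import Groth.Agent.StModLib.GerbeSys

/-!
# The resolution property of stacks covered affinely and flatly by affine regular schemes of dimension at most one
-/

set_option autoImplicit false
set_option linter.style.haveILetI false
set_option linter.unusedSectionVars false
set_option backward.isDefEq.respectTransparency false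
set_option backward.isDefEq.respectTransparency.types false

universe u

open CategoryTheory CategoryTheory.Limits AlgebraicGeometry AlgSp
open Groth.Agent.AlgStLib Groth.Agent.FibBase Groth.Agent.StModLib

noncomputable section

namespace Groth.Agent.H9RP

variable {S : Scheme.{u}} {𝒳 : AlgSt.Cat S} {U : Over S} {u : FibCat.overCat U ⥤ᵇ 𝒳} (D : Setup u)

theorem isFT_castMod {X T : Scheme.{u}} (h : X = T) {M : X.Modules} (hM : CohB1.IsFT M) :
    CohB1.IsFT (StMod.castMod h M) := by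
  subst h
  exact hM

include D in
/-- Every affine object is covered faithfully flatly by an affine object over the cover. -/
theorem cover_over (z : 𝒳.obj) (hz : IsAffine (StMod.sch 𝒳 z)) :
    ∃ (w : 𝒳.obj) (f : w ⟶ z) (_ : w ⟶ u.obj (topU U)),
      IsAffine (StMod.sch 𝒳 w) ∧ Flat (StMod.bmap 𝒳 f) ∧ Surjective (StMod.bmap 𝒳 f) :=
  ⟨u.obj (D.pres z hz).z, (D.pres z hz).α, u.map (toTopOver _), isAffine_image (D.pres z hz).affz,
    D.pres_bmap z hz⟩

include D in
theorem isSurj_of_cover {G G' : StMod.QCoh 𝒳} (a : G ⟶ G')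
    (h : Function.Surjective ((a.hom.app (u.obj (topU U))).app ⊤)) : StMod.Mod.IsSurj a.hom := fun z hz => by
  obtain ⟨w, f, g, hw, hf, hs⟩ := cover_over D z hz
  exact surjective_of_affCov (J := PUnit.{u + 1}) (fun _ => f) hz (fun _ => hw) (fun _ => hf)
    (fun t => ⟨PUnit.unit, hs.surj t⟩) a fun _ => surjective_of_map a g hw D.affX₁ h

/-- The regularity hypothesis on the ring of the cover. -/
def RegDimLeOne (A : Type u) [CommRing A] : Prop :=
  IsNoetherianRing A ∧ ∀ (P : Ideal A) [P.IsMaximal],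
    IsRegularLocalRing (Localization.AtPrime P) ∧ ringKrullDim (Localization.AtPrime P) ≤ 1

variable (hA : RegDimLeOne Γ(StMod.sch 𝒳 (u.obj (topU U)), ⊤))

include D hA in
theorem finLocFree_of_top (L : StMod.QCoh 𝒳)
    (hfin : Module.Finite Γ(StMod.sch 𝒳 (u.obj (topU U)), ⊤) Γ(L.obj.obj (u.obj (topU U)), ⊤))
    (hflat : Module.Flat Γ(StMod.sch 𝒳 (u.obj (topU U)), ⊤) Γ(L.obj.obj (u.obj (topU U)), ⊤)) (ξ : 𝒳.obj) :
    FlatMod.IsFinLocFree (L.obj.obj ξ) := by
  refine forall_of_cover D.hp (fun {X} M => FlatMod.IsFinLocFree M)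
    (fun _ M N e h => (Groth.Agent.ConsPropLib.isFinLocFree_iso e).1 h)
    (fun _ _ f M _ h => CanonEval.isFinLocFree_pullback f h)
    (fun _ _ _ f hf M hM h => isFinLocFree_of_fpqc_family f hf hM h) L ?_ (cover_over D) ξ
  haveI := D.affX₁
  haveI := hfin
  haveI := hA.1
  have hM := L.property.2 (u.obj (topU U))
  have htop : IsAffineOpen (⊤ : (StMod.sch 𝒳 (u.obj (topU U))).Opens) := isAffineOpen_top _
  refine QCoh.isFlat_and_isFP_iff.1 ⟨fun x => (QCoh.flat_sections_iff hM htop).1 hflat x trivial, ?_⟩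
  exact QCoh.isFP_of_finitePresentation hM (fun _ : PUnit.{u + 1} => ⊤) (by simp [TopologicalSpace.IsOpenCover])
    (fun _ => htop) fun _ => Module.finitePresentation_of_finite _ _

include D hA in
theorem isFinType_of_top (L : StMod.QCoh 𝒳)
    (hfin : Module.Finite Γ(StMod.sch 𝒳 (u.obj (topU U)), ⊤) Γ(L.obj.obj (u.obj (topU U)), ⊤)) :
    L.obj.IsFinType := fun ξ => by
  refine QCoh.isFT_of_isFP (forall_of_cover D.hp (fun {X} M => CohB1.IsFP M) (fun _ M N e h => isFP_of_iso e h)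
    (fun _ _ f M hM h => LimModLib.isFP_pullback f hM h)
    (fun _ _ _ f hf M hM h => isFP_of_fpqc_family f hf hM h) L ?_ (cover_over D) ξ)
  haveI := D.affX₁
  haveI := hfin
  haveI := hA.1
  exact QCoh.isFP_of_finitePresentation (L.property.2 _) (fun _ : PUnit.{u + 1} => ⊤)
    (by simp [TopologicalSpace.IsOpenCover]) (fun _ => isAffineOpen_top _)
    fun _ => Module.finitePresentation_of_finite _ _

include D hA in
/-- Quotients of vector bundles. -/
theorem exists_vb_quot (F : StMod.QCoh 𝒳) (hF : F.obj.IsFinType) :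
    ∃ (E : StMod.QCoh 𝒳) (q : E ⟶ F), E.obj.IsLocFree ∧ E.obj.IsFinType ∧ StMod.Mod.IsSurj q.hom := by
  classical
  let F' := (StMod.comapQ u).obj F
  haveI := D.affTop
  haveI := D.affX₁
  haveI : Module.Finite Γ(StMod.sch (FibCat.overCat U : AlgSt.Cat S) (topU U), ⊤) Γ(F'.obj.obj (topU U), ⊤) :=
    QCoh.finite_of_isFT (F'.property.2 _) (isFT_castMod (StMod.sch_obj_eq u (topU U)) (hF _))
      (isAffineOpen_top _)
  obtain ⟨n, m, hm⟩ := Module.Finite.exists_fin
    (R := Γ(StMod.sch (FibCat.overCat U : AlgSt.Cat S) (topU U), ⊤)) (M := Γ(F'.obj.obj (topU U), ⊤))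
  obtain ⟨E, φ, hE, hφ⟩ := exists_free_top F' D.affTop m
  have hsurj : StMod.Mod.IsSurj φ.hom := fun y hy => D.isSurj_comap_of_top φ (fun g => by
    show g ∈ LinearMap.range (appLin φ (topU U))
    refine (Submodule.span_le.2 ?_) (hm ▸ Submodule.mem_top : g ∈ Submodule.span _ (Set.range m))
    rintro _ ⟨i, rfl⟩
    exact hφ i) y hy
  let K := D.push E
  let H := D.push F'
  obtain ⟨a, ha⟩ := H.exists_hom D.hp D.P D.hd (G := K.mod)
    (fun p => (StMod.Mod.relSectMap u φ.hom p.1).comp (K.θLin p))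
    fun {p q} f x => by
      show relRes f _ (StMod.Mod.relSectMap u φ.hom q.1 (K.θ q x)) = _
      rw [relRes_map, ← K.nat]
      rfl
  obtain ⟨b, hb⟩ := H.exists_hom D.hp D.P D.hd (G := F) (fun p => unitLin u F p.1)
    fun {p q} f x => relRes_unitLin u F f x
  have hbinj : ∀ p : FMem D.x₀, Function.Injective (appLin b p.1) := fun p x y h =>
    D.unitLin_injective F p.1 p.2.1 (by rw [← hb, ← hb, h])
  obtain ⟨G₀, j, hj⟩ := exists_preimage D.hp D.P D.hd b a
  choose q₀ hq₀ using fun (p : FMem D.x₀) (x : Γ(G₀.obj.obj p.1, ⊤)) => ((hj p).2 _).1 ⟨x, rfl⟩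
  obtain ⟨q, hq⟩ := exists_hom_of_flatMem D.hp D.P D.hd (G := G₀) (G' := F)
    (m := fun p => AddMonoidHom.mk' (q₀ p) fun x y => hbinj p (by
      simp only [map_add, hq₀]))
    ⟨fun p r x => hbinj p (by
        show appLin b p.1 (q₀ p (r • x)) = appLin b p.1 (r • q₀ p x)
        simp only [map_smul, hq₀]),
      fun {p p'} f x => hbinj p (by
        show appLin b p.1 (F.obj.mapTop f (q₀ p' x)) = appLin b p.1 (q₀ p (G₀.obj.mapTop f x))
        rw [← appLin_mapTop, hq₀, hq₀, appLin_mapTop, appLin_mapTop])⟩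
  have hqs : StMod.Mod.IsSurj q.hom := isSurj_of_flatMem D.hp D.hd q fun p g => by
    haveI := p.2.1
    obtain ⟨s, hs⟩ := surjective_relSectMap_of_affine Setup.isFibGrpd_over D.hp D.hua p.1 φ hsurj
      (unitLin u F p.1 g)
    obtain ⟨k, rfl⟩ := (K.bij p).2 s
    have hk : appLin a p.1 k = appLin b p.1 g := (H.bij p).1 (by rw [ha, hb]; exact hs)
    obtain ⟨x, hx⟩ := ((hj p).2 k).2 ⟨g, hk.symm⟩
    exact ⟨x, (hq p x).trans (hbinj p (by
      show appLin b p.1 (q₀ p x) = _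
      rw [hq₀, hx, hk]))⟩
  have hjinj : Function.Injective (appLin j (u.obj (topU U))) := by
    rw [injective_iff_map_eq_zero]
    intro l hl
    refine D.eq_zero_fmem G₀ l fun i => (hj (D.z i)).1 ?_
    rw [map_zero, ← appLin_mapTop, hl, StMod.Mod.mapTop_zero]
  haveI hKflat : Module.Flat Γ(StMod.sch 𝒳 (u.obj (topU U)), ⊤) Γ(K.mod.obj.obj (u.obj (topU U)), ⊤) :=
    flat_of_affCov D.φ D.affX₁ (fun i => (D.z i).2.1) D.cov.flat D.cov.surj K.mod
      fun i => flat_pushed D E (fun y hy => (hE y hy).2) K (D.z i)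
  haveI hG₀ : Module.Flat Γ(StMod.sch 𝒳 (u.obj (topU U)), ⊤) Γ(G₀.obj.obj (u.obj (topU U)), ⊤) :=
    haveI := flat_submodule hA.2 (LinearMap.range (appLin j (u.obj (topU U))))
    Module.Flat.of_linearEquiv (LinearEquiv.ofInjective _ hjinj)
  haveI : Module.Finite Γ(StMod.sch 𝒳 (u.obj (topU U)), ⊤) Γ(F.obj.obj (u.obj (topU U)), ⊤) :=
    QCoh.finite_of_isFT (F.property.2 _) (hF _) (isAffineOpen_top _)
  obtain ⟨k, g, hg⟩ := Module.Finite.exists_fin
    (R := Γ(StMod.sch 𝒳 (u.obj (topU U)), ⊤)) (M := Γ(F.obj.obj (u.obj (topU U)), ⊤))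
  choose g' hg' using fun i => hqs (u.obj (topU U)) D.affX₁ (g i)
  obtain ⟨L, ι, hι, hfin, hmem⟩ := exists_sub_mem D hA.1 G₀ g'
  have hflat : Module.Flat Γ(StMod.sch 𝒳 (u.obj (topU U)), ⊤) Γ(L.obj.obj (u.obj (topU U)), ⊤) :=
    haveI := flat_submodule hA.2 (LinearMap.range (appLin ι (u.obj (topU U))))
    Module.Flat.of_linearEquiv (LinearEquiv.ofInjective _ hι)
  refine ⟨L, ι ≫ q, fun ξ => isLocallyFree_of_isFinLocFree (finLocFree_of_top D hA L hfin hflat ξ),
    fun ξ => QCoh.isFT_of_isFP (QCoh.isFP_of_isFinLocFree (finLocFree_of_top D hA L hfin hflat ξ)),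
    isSurj_of_cover D (ι ≫ q) fun y => ?_⟩
  show y ∈ LinearMap.range (appLin (ι ≫ q) (u.obj (topU U)))
  refine Submodule.span_le.2 ?_ (hg ▸ Submodule.mem_top : y ∈ Submodule.span _ (Set.range g))
  rintro _ ⟨i, rfl⟩
  obtain ⟨e, he⟩ := hmem i
  refine ⟨e, Eq.trans ?_ (hg' i)⟩
  rw [← he]
  rfl

include D hA in
/-- Vector bundles generate. -/
theorem hom_eq_of_vb (M N : StMod.QCoh 𝒳) (a b : M ⟶ N)
    (h : ∀ E : StMod.QCoh 𝒳, E.obj.IsLocFree → E.obj.IsFinType → ∀ φ : E ⟶ M, φ ≫ a = φ ≫ b) : a = b := by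
  have key : ∀ g, appLin a (u.obj (topU U)) g = appLin b (u.obj (topU U)) g := fun g => by
    obtain ⟨L, ι, -, hfin, hmem⟩ := exists_sub_mem D hA.1 M fun _ : PUnit.{u + 1} => g
    obtain ⟨l, rfl⟩ := hmem PUnit.unit
    obtain ⟨E, q, hE, hE', hq⟩ := exists_vb_quot D hA L (isFinType_of_top D hA L hfin)
    obtain ⟨e, rfl⟩ := hq (u.obj (topU U)) D.affX₁ l
    exact congrArg (fun v : E ⟶ N => appLin v (u.obj (topU U)) e) (h E hE hE' (q ≫ ι))
  refine Groth.Agent.H9Gen.hom_ext_flatMem D.hp D.hd fun p x => sub_eq_zero.1 ?_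
  let c := D.pres p.1 p.2.1
  refine D.eq_zero_pres N p.1 p.2.1 _ ?_
  show res N c.α (appLin a p.1 x - appLin b p.1 x) = 0
  rw [map_sub, res_apply, res_apply, appLin_mapTop, appLin_mapTop, sub_eq_zero]
  refine Submodule.span_induction (p := fun y _ => appLin a _ y = appLin b _ y) ?_ ?_ ?_ ?_
    (mem_span_res M (u.map (toTopOver c.z)) (isAffine_image c.affz) D.affX₁ (M.obj.mapTop c.α x))
  · rintro _ ⟨y, rfl⟩
    rw [res_apply, ← appLin_mapTop, ← appLin_mapTop, key]
  · rw [map_zero, map_zero]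
  · intro y y' _ _ hy hy'
    rw [map_add, map_add, hy, hy']
  · intro r y _ hy
    rw [map_smul, map_smul, hy]

end Groth.Agent.H9RP
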