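import Groth.Agent.H9RP.AffSub

/-!
# Finitely generated submodules, and sections of pushforwards
-/

set_option autoImplicit false
set_option linter.style.haveILetI false
set_option linter.unusedSectionVars false
set_option backward.isDefEq.respectTransparency false
set_option backward.isDefEq.respectTransparency.types false

universe u

open CategoryTheory CategoryTheory.Limits AlgebraicGeometry AlgSp
open Groth.Agent.AlgStLib Groth.Agent.FibBase Groth.Agent.StModLib

noncomputable section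

namespace Groth.Agent.H9RP

variable {S : Scheme.{u}} {𝒳 : AlgSt.Cat S}

/-- Surjectivity passes to affine objects over an object. -/
theorem surjective_of_map {G G' : StMod.QCoh 𝒳} (a : G ⟶ G') {w x : 𝒳.obj} (f : w ⟶ x)
    (hw : IsAffine (StMod.sch 𝒳 w)) (hx : IsAffine (StMod.sch 𝒳 x))
    (h : Function.Surjective ((a.hom.app x).app ⊤)) : Function.Surjective ((a.hom.app w).app ⊤) := by
  intro g
  show g ∈ LinearMap.range (appLin a w)
  refine Submodule.span_le.2 ?_ (mem_span_res G' f hw hx g)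
  rintro _ ⟨m, rfl⟩
  obtain ⟨e, rfl⟩ := h m
  exact ⟨G.obj.mapTop f e, (StMod.Mod.mapTop_app a.hom f e).symm⟩

variable {U : Over S} {u : FibCat.overCat U ⥤ᵇ 𝒳}

/-- Finitely many sections over the final object are hit by a map from a finite free module. -/
theorem exists_free_top (F : StMod.QCoh (FibCat.overCat U : AlgSt.Cat S)) {n : ℕ}
    (hU : IsAffine (StMod.sch (FibCat.overCat U : AlgSt.Cat S) (topU U)))
    (m : Fin n → Γ(F.obj.obj (topU U), ⊤)) :
    ∃ (E : StMod.QCoh (FibCat.overCat U : AlgSt.Cat S)) (φ : E ⟶ F),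
      (∀ y, IsAffine (StMod.sch (FibCat.overCat U : AlgSt.Cat S) y) →
        Module.Finite Γ(StMod.sch (FibCat.overCat U : AlgSt.Cat S) y, ⊤) Γ(E.obj.obj y, ⊤) ∧
          Module.Flat Γ(StMod.sch (FibCat.overCat U : AlgSt.Cat S) y, ⊤) Γ(E.obj.obj y, ⊤)) ∧
      ∀ i, m i ∈ LinearMap.range (appLin φ (topU U)) := by
  obtain ⟨E, φ, hφ⟩ := exists_free_hom (𝒵 := (FibCat.overCat U : AlgSt.Cat S)) (isFibGrpd_overCat U) F
    (fun i y => F.obj.mapTop (toTopOver y.1) (m i)) fun i {y' y} f => by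
      rw [← StMod.Mod.mapTop_comp]
      exact congrArg (fun g => F.obj.mapTop g (m i)) (Over.OverMorphism.ext (Over.w f))
  refine ⟨E, φ, fun y hy => ?_, fun i => ?_⟩
  · obtain ⟨e, -⟩ := hφ ⟨y, hy⟩
    exact ⟨Module.Finite.equiv e.symm, Module.Flat.of_linearEquiv e⟩
  · obtain ⟨e, he⟩ := hφ ⟨topU U, hU⟩
    refine ⟨e.symm (Pi.single i 1), (he _).trans ?_⟩
    rw [e.apply_symm_apply]
    rw [Finset.sum_eq_single i (fun k _ hk => by rw [Pi.single_eq_of_ne hk, zero_smul]) (by simp),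
      Pi.single_eq_same, one_smul]
    rw [show toTopOver (topU U) = 𝟙 (topU U) from Over.OverMorphism.ext rfl]
    exact StMod.Mod.mapTop_id _ _ _

variable (D : Setup u)

include D in
theorem imgTop_fg {F : StMod.QCoh 𝒳} {E : StMod.QCoh (FibCat.overCat U : AlgSt.Cat S)}
    (φ : E ⟶ (StMod.comapQ u).obj F)
    (hE : Module.Finite Γ(StMod.sch (FibCat.overCat U : AlgSt.Cat S) (topU U), ⊤) Γ(E.obj.obj (topU U), ⊤)) :
    (imgTop φ).FG := by
  classical
  obtain ⟨T, hT⟩ := hE.fg_top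
  refine ⟨T.image fun e => cmp u F.obj (topU U) (appLin φ (topU U) e), le_antisymm (Submodule.span_le.2 ?_) ?_⟩
  · intro g hg
    obtain ⟨e, -, rfl⟩ := Finset.mem_image.1 hg
    exact mem_imgTop φ e
  · refine Submodule.span_le.2 ?_
    rintro _ ⟨e, rfl⟩
    have he : e ∈ Submodule.span Γ(StMod.sch (FibCat.overCat U : AlgSt.Cat S) (topU U), ⊤) (T : Set _) :=
      hT ▸ Submodule.mem_top
    show cmp u F.obj (topU U) (appLin φ (topU U) e) ∈ Submodule.span _ _
    induction he using Submodule.span_induction with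
    | mem x hx => exact Submodule.subset_span (Finset.mem_image_of_mem _ hx)
    | zero => rw [map_zero, map_zero]; exact zero_mem _
    | add a b _ _ ha hb => rw [map_add, map_add]; exact add_mem ha hb
    | smul r a _ ha =>
      rw [map_smul]
      erw [cmp_smul]
      exact Submodule.smul_mem _ _ ha

include D in
/-- Finitely many sections over the cover lie in a submodule of finite type. -/
theorem exists_sub_mem (hN : IsNoetherianRing Γ(StMod.sch 𝒳 (u.obj (topU U)), ⊤)) (F : StMod.QCoh 𝒳) {ι : Type*}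
    [Finite ι] (g : ι → Γ(F.obj.obj (u.obj (topU U)), ⊤)) :
    ∃ (L : StMod.QCoh 𝒳) (j : L ⟶ F), Function.Injective (appLin j (u.obj (topU U))) ∧
      Module.Finite Γ(StMod.sch 𝒳 (u.obj (topU U)), ⊤) Γ(L.obj.obj (u.obj (topU U)), ⊤) ∧
      ∀ i, g i ∈ LinearMap.range (appLin j (u.obj (topU U))) := by
  classical
  haveI := Fintype.ofFinite ι
  let F' := (StMod.comapQ u).obj F
  let c := D.pres _ D.affX₁
  have hsum : ∀ i, ∃ t : Γ(F'.obj.obj (topU U), ⊤) →₀ Γ(StMod.sch (FibCat.overCat U : AlgSt.Cat S) c.z, ⊤),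
      (t.sum fun m r => r • res F' (toTopOver c.z) m) = c.ev F'.obj (unitLin u F _ (g i)) := fun i =>
    Finsupp.mem_span_range_iff_exists_finsupp.1 (mem_span_res F' (toTopOver c.z) c.affz D.affTop _)
  choose t ht using hsum
  let T : Finset Γ(F'.obj.obj (topU U), ⊤) := Finset.univ.biUnion fun i => (t i).support
  obtain ⟨E, φ, hE, hm⟩ := exists_free_top F' D.affTop fun k : Fin T.card => (T.equivFin.symm k).1
  obtain ⟨L, j, hj, hle, hmem⟩ := exists_sub D F φ
  refine ⟨L, j, hj, ?_, fun i => ?_⟩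
  · haveI := hN
    haveI : Module.Finite Γ(StMod.sch 𝒳 (u.obj (topU U)), ⊤) (imgTop φ) :=
      Module.Finite.iff_fg.2 (imgTop_fg D φ (hE _ D.affTop).1)
    exact Module.Finite.of_injective ((appLin j (u.obj (topU U))).codRestrict (imgTop φ) fun l => hle ⟨l, rfl⟩)
      fun a b h => hj (congrArg Subtype.val h)
  · have hv : c.ev F'.obj (unitLin u F _ (g i)) ∈ LinearMap.range (appLin φ c.z) := by
      rw [← ht i]
      refine Submodule.sum_mem _ fun m hmT => Submodule.smul_mem _ _ ?_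
      obtain ⟨e, he⟩ := hm (T.equivFin ⟨m, Finset.mem_biUnion.2 ⟨i, Finset.mem_univ _, hmT⟩⟩)
      rw [Equiv.symm_apply_apply] at he
      exact ⟨E.obj.mapTop (toTopOver c.z) e, by rw [← appLin_mapTop, he]; rfl⟩
    obtain ⟨e, he⟩ := hv
    obtain ⟨s, hs⟩ := c.exists_of_eq Setup.isFibGrpd_over E.property (x := e) fun k => by
      rw [(D.pres_spec _ D.affX₁).1 k]
    refine hmem (g i) s (c.ev_injective Setup.isFibGrpd_over F'.property ((c.ev_map E.obj φ.hom s).trans ?_))
    rw [hs]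
    exact he

include D in
/-- The sections of the pushforward of a flat module over a member are flat. -/
theorem flat_pushed (E : StMod.QCoh (FibCat.overCat U : AlgSt.Cat S))
    (hE : ∀ y, IsAffine (StMod.sch (FibCat.overCat U : AlgSt.Cat S) y) →
      Module.Flat Γ(StMod.sch (FibCat.overCat U : AlgSt.Cat S) y, ⊤) Γ(E.obj.obj y, ⊤))
    (K : Pushed u D.x₀ E) (p : FMem D.x₀) : Module.Flat Γ(StMod.sch 𝒳 p.1, ⊤) Γ(K.mod.obj.obj p.1, ⊤) := by
  let c := D.pres p.1 p.2.1
  obtain ⟨hab, hfl, -⟩ := D.pres_spec p.1 p.2.1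
  let σ : Γ(StMod.sch 𝒳 p.1, ⊤) →+* Γ(StMod.sch (FibCat.overCat U : AlgSt.Cat S) c.z, ⊤) :=
    (StMod.baseOver u c.z c.α).left.appTop.hom
  haveI : IsAffine (𝒳.p.obj p.1).left := p.2.1
  haveI : IsAffine ((FibCat.overCat U : AlgSt.Cat S).p.obj c.z).left := c.affz
  have hσ : σ.Flat := (HasRingHomProperty.iff_of_isAffine (P := @Flat)).1 hfl
  haveI := hE c.z c.affz
  letI := σ.toAlgebra
  letI : Module Γ(StMod.sch 𝒳 p.1, ⊤) Γ(E.obj.obj c.z, ⊤) := Module.compHom _ σ
  haveI : IsScalarTower Γ(StMod.sch 𝒳 p.1, ⊤) Γ(StMod.sch (FibCat.overCat U : AlgSt.Cat S) c.z, ⊤)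
      Γ(E.obj.obj c.z, ⊤) := IsScalarTower.of_algebraMap_smul fun _ _ => rfl
  haveI : Module.Flat Γ(StMod.sch 𝒳 p.1, ⊤) Γ(StMod.sch (FibCat.overCat U : AlgSt.Cat S) c.z, ⊤) := hσ
  haveI := Module.Flat.trans Γ(StMod.sch 𝒳 p.1, ⊤) Γ(StMod.sch (FibCat.overCat U : AlgSt.Cat S) c.z, ⊤)
    Γ(E.obj.obj c.z, ⊤)
  let ev : StMod.Mod.RelSect u E.obj p.1 →ₗ[Γ(StMod.sch 𝒳 p.1, ⊤)] Γ(E.obj.obj c.z, ⊤) :=
    { toFun := c.ev E.obj, map_add' := map_add _, map_smul' := fun r s => c.ev_smul E.obj r s }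
  have hev : Function.Bijective ev := ⟨c.ev_injective Setup.isFibGrpd_over E.property, fun x =>
    c.exists_of_eq Setup.isFibGrpd_over E.property (x := x) fun k => by rw [hab k]⟩
  exact Module.Flat.of_linearEquiv (LinearEquiv.ofBijective (ev.comp (K.θLin p)) (hev.comp (K.bij p)))

end Groth.Agent.H9RP
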