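import Groth.Agent.StModLib.FlatHom
import Groth.Agent.AlgSpLib.EtLocalInst
import Groth.Agent.AlgSpLib.Points

/-!
# Covering the source of a flat morphism by affine objects flat over an atlas
-/

set_option autoImplicit false
set_option linter.style.haveILetI false
set_option backward.isDefEq.respectTransparency false
set_option backward.isDefEq.respectTransparency.types false

universe u

open CategoryTheory CategoryTheory.Limits AlgebraicGeometry AlgSp
open Groth.Agent.AlgStLib Groth.Agent.AlgSpLib Groth.Agent.FibBase Groth.Agent.StModLib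

noncomputable section

namespace Groth.Agent.H9RP

variable {S : Scheme.{u}} {𝒳 : AlgSt.Cat S}

/-- The base of the morphism to the final object. -/
theorem bmap_map_toTop {U : Over S} (x : FibCat.overCat U ⥤ᵇ 𝒳) (V : (FibCat.overCat U : AlgSt.Cat S).obj) :
    StMod.bmap 𝒳 (x.map (toTopOver V)) =
      (eqToHom (x.w_obj V)).left ≫ V.hom.left ≫ (eqToHom (x.w_obj (Over.mk (𝟙 U))).symm).left := by
  show (𝒳.p.map (x.map (toTopOver V))).left = _
  rw [IsHomLift.fac' 𝒳.p ((FibCat.overCat U).p.map (toTopOver V)) (x.map (toTopOver V))]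
  rfl

theorem mem_range_toTop {U : Over S} (x : FibCat.overCat U ⥤ᵇ 𝒳) (V : (FibCat.overCat U : AlgSt.Cat S).obj)
    (t : (𝒳.p.obj (x.obj (Over.mk (𝟙 U)))).left) (s : V.left.left)
    (h : V.hom.left s = (eqToHom (x.w_obj (Over.mk (𝟙 U)))).left t) :
    t ∈ Set.range (StMod.bmap 𝒳 (x.map (toTopOver V))) := by
  refine ⟨(eqToHom (x.w_obj V).symm).left s, ?_⟩
  rw [bmap_map_toTop, Scheme.Hom.comp_apply, Scheme.Hom.comp_apply]
  have e : ∀ {A B : Over S} (e : A = B) (t : A.left), (eqToHom e.symm).left ((eqToHom e).left t) = t := by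
    rintro A B rfl t
    rfl
  have e1 : (eqToHom (x.w_obj V)).left ((eqToHom (x.w_obj V).symm).left s) = s := e (x.w_obj V).symm s
  exact ((congrArg (fun s' => (eqToHom (x.w_obj (Over.mk (𝟙 U))).symm).left (V.hom.left s')) e1).trans
    (congrArg (eqToHom (x.w_obj (Over.mk (𝟙 U))).symm).left h)).trans (e (x.w_obj (Over.mk (𝟙 U))) t)

theorem flat_lfp_toTop {U : Over S} (x : FibCat.overCat U ⥤ᵇ 𝒳) (V : (FibCat.overCat U : AlgSt.Cat S).obj)
    (h : Smooth V.hom.left) :
    Flat (StMod.bmap 𝒳 (x.map (toTopOver V))) ∧ LocallyOfFinitePresentation (StMod.bmap 𝒳 (x.map (toTopOver V))) := by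
  haveI := h
  haveI : ∀ {A B : Over S} (e : A = B), IsIso (eqToHom e).left := fun e =>
    inferInstanceAs (IsIso ((Over.forget S).map (eqToHom e)))
  rw [bmap_map_toTop]
  exact ⟨inferInstance, inferInstance⟩

theorem points_map_factor {A B C : Over S} {F : Sp S} (w : A ⟶ B) (p : (yon S).obj B ⟶ F) (m : F ⟶ (yon S).obj C)
    (q : A ⟶ C) (e : ((yon S).map w ≫ p) ≫ m = (yon S).map q) (r : A.left) :
    Points.map m (Points.map p (Points.schemeHomeo B (w.left r))) = Points.schemeHomeo C (q.left r) := by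
  have h := congrArg (fun k => Points.map k (Points.schemeHomeo A r)) e
  simp only [Points.map_comp, Points.map_yon_map_eq, Function.comp_apply, Homeomorph.symm_apply_apply] at h
  exact h

/-- The objects of a chart inherit properties of the morphism. -/
theorem chart_property (P : MorphismProperty Scheme.{u}) [IsEtLocal P] [P.IsStableUnderComposition]
    [P.RespectsIso] (hle : @Etale ≤ P) {F : Sp S} (hF : IsAlgSpace F) {U V : Over S} (p : (yon S).obj V ⟶ F)
    (hpe : RepWith @Etale p) (W : V.left.Opens) (Φ : AlgSt.ofSp F ⥤ᵇ FibCat.overCat U)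
    (hΦ : LocP P (AlgSt.spMapOfOver Φ)) :
    P (Φ.obj (eltOfMap ((yon S).map (Over.homMk W.ι rfl : Over.mk (W.ι ≫ V.hom) ⟶ V) ≫ p))).hom.left := by
  let o := eltOfMap ((yon S).map (Over.homMk W.ι rfl : Over.mk (W.ι ≫ V.hom) ⟶ V) ≫ p)
  let wι : Over.mk (W.ι ≫ V.hom) ⟶ V := Over.homMk W.ι rfl
  have e : ((yon S).map wι ≫ p) ≫ AlgSt.spMapOfOver Φ = (yon S).map (AlgSt.secHom Φ o) := by
    refine (AlgSp.J S).uliftYonedaEquiv.injective ?_
    rw [GrothendieckTopology.uliftYonedaEquiv_comp]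
    exact ((AlgSp.J S).uliftYonedaEquiv_uliftYoneda_map (AlgSt.secHom Φ o)).symm
  have h1 : LocP P ((yon S).map (AlgSt.secHom Φ o)) := e ▸ locP_comp (IsAlgSpace.yon_obj _) hF
    (IsAlgSpace.yon_obj U)
    (locP_mono hle
      (locP_of_repWith (P := @Etale) (repWith_comp
        ((repWith_yon_map_iff @Etale wι).2 (inferInstanceAs (Etale W.ι))) hpe))) hΦ
  have h2 : P (AlgSt.secHom Φ o).left := locP_yon_map h1
  haveI : IsIso (eqToHom (Φ.w_obj o).symm).left := inferInstanceAs (IsIso ((Over.forget S).map _))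
  exact (MorphismProperty.cancel_left_of_respectsIso P (eqToHom (Φ.w_obj o).symm).left (Φ.obj o).hom.left).1 h2

/-- The source of a flat morphism is covered by affine objects flat over a given smooth atlas. -/
theorem exists_fmem_cover {U Ua : Over S} (x : FibCat.overCat U ⥤ᵇ 𝒳) (a : FibCat.overCat Ua ⥤ᵇ 𝒳)
    (hx : AlgSt.RepByAlgSpWith (LocP @Flat) x) (ha : AlgSt.RepByAlgSpWith (LocP @Smooth) a)
    (has : AlgSt.RepByAlgSpWith IsSurjectiveMor a) :
    ∃ (ι : Type u) (z : ι → FMem (a.obj (Over.mk (𝟙 Ua)))) (φ : ∀ i, (z i).1 ⟶ x.obj (Over.mk (𝟙 U))),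
      IsCov (fun i => (z i).1) φ := by
  obtain ⟨F, K, hK, hsm⟩ := ha U x
  have hsu := (RepOver.property_of_stableBC stableBC_isSurjectiveMor (has U x) K hK).2
  let K' := BasedFunctor.comp K (fpSwap x a)
  have hK' : FibCat.IsEquivOver K' := isEquivOver_comp hK (fpSwap_isEquivOver x a)
  have hfl := (RepOver.property_of_stableBC stableBC_locP (hx Ua a) K' hK').2
  obtain ⟨V, p, hpe, hps⟩ := F.property.atlas
  let wι : ∀ W : V.left.affineOpens, Over.mk (W.1.ι ≫ V.hom) ⟶ V := fun W => Over.homMk W.1.ι rfl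
  let oW : V.left.affineOpens → (AlgSt.ofSp F.obj).obj := fun W => eltOfMap ((yon S).map (wι W) ≫ p)
  let Ob : AlgSt.ofSp F.obj ⥤ᵇ 𝒳 := BasedFunctor.comp (BasedFunctor.comp K (FibCat.fpFst x a)) x
  let cu : ∀ o : (AlgSt.ofSp F.obj).obj, Ob.obj o ⟶ x.obj (Over.mk (𝟙 U)) := fun o =>
    x.map (toTopOver (K.obj o).obj.fst)
  let cv : ∀ o : (AlgSt.ofSp F.obj).obj, Ob.obj o ⟶ a.obj (Over.mk (𝟙 Ua)) := fun o =>
    (K.obj o).obj.iso.hom ≫ a.map (toTopOver (K.obj o).obj.snd)
  have haff : ∀ W : V.left.affineOpens, IsAffine (StMod.sch 𝒳 (Ob.obj (oW W))) := fun W => by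
    show IsAffine (𝒳.p.obj (Ob.obj (oW W))).left
    rw [Ob.w_obj (oW W)]
    exact W.2
  have hs : ∀ W : V.left.affineOpens, Smooth (K.obj (oW W)).obj.fst.hom.left := fun W =>
    chart_property @Smooth (fun _ _ f (_ : Etale f) => inferInstanceAs (Smooth f)) F.property p hpe W.1
      (BasedFunctor.comp K (FibCat.fpFst x a)) hsm
  have hf : ∀ W : V.left.affineOpens, Flat (K.obj (oW W)).obj.snd.hom.left := fun W =>
    chart_property @Flat (fun _ _ f (_ : Etale f) => inferInstanceAs (Flat f)) F.property p hpe W.1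
      (BasedFunctor.comp K' (FibCat.fpFst a x)) hfl
  haveI hiso : ∀ {A B : Over S} (e : A = B), IsIso (eqToHom e).left := fun e =>
    inferInstanceAs (IsIso ((Over.forget S).map (eqToHom e)))
  have hcu : ∀ W, Flat (StMod.bmap 𝒳 (cu (oW W))) ∧ LocallyOfFinitePresentation (StMod.bmap 𝒳 (cu (oW W))) :=
    fun W => flat_lfp_toTop x (K.obj (oW W)).obj.fst (hs W)
  refine ⟨V.left.affineOpens, fun W => ⟨Ob.obj (oW W), haff W, cv (oW W), ?_⟩, fun W => cu (oW W),
    ⟨fun W => (hcu W).1, fun W => (hcu W).2, fun t => ?_⟩⟩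
  · haveI := hf W
    haveI := flat_bmap_map_toTop a (K.obj (oW W)).obj.snd
    haveI : IsIso (StMod.bmap 𝒳 (K.obj (oW W)).obj.iso.hom) :=
      inferInstanceAs (IsIso (𝒳.p.map (K.obj (oW W)).obj.iso.hom).left)
    show Flat (StMod.bmap 𝒳 ((K.obj (oW W)).obj.iso.hom ≫ _))
    rw [StMod.bmap_comp]
    infer_instance
  · let Φ := BasedFunctor.comp K (FibCat.fpFst x a)
    let t' : U.left := (eqToHom (x.w_obj (Over.mk (𝟙 U)))).left t
    obtain ⟨q, hq⟩ := hsu (Points.schemeHomeo U t')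
    obtain ⟨q', rfl⟩ := surjective_map_of_repWith hps q
    obtain ⟨r, rfl⟩ := (Points.schemeHomeo V).surjective q'
    obtain ⟨W, hW, hr, -⟩ := exists_isAffineOpen_mem_and_subset (U := (⊤ : V.left.Opens))
      (trivial : r ∈ (⊤ : V.left.Opens))
    let W' : V.left.affineOpens := ⟨W, hW⟩
    have e : ((yon S).map (wι W') ≫ p) ≫ AlgSt.spMapOfOver Φ = (yon S).map (AlgSt.secHom Φ (oW W')) := by
      refine (AlgSp.J S).uliftYonedaEquiv.injective ?_
      rw [GrothendieckTopology.uliftYonedaEquiv_comp]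
      exact ((AlgSp.J S).uliftYonedaEquiv_uliftYoneda_map (AlgSt.secHom Φ (oW W'))).symm
    have h1 : (AlgSt.secHom Φ (oW W')).left ⟨r, hr⟩ = t' :=
      (Points.schemeHomeo U).injective ((points_map_factor (wι W') p (AlgSt.spMapOfOver Φ)
        (AlgSt.secHom Φ (oW W')) e ⟨r, hr⟩).symm.trans hq)
    refine ⟨W', mem_range_toTop x (Φ.obj (oW W')) t ((eqToHom (Φ.w_obj (oW W')).symm).left ⟨r, hr⟩) ?_⟩
    exact (Scheme.Hom.comp_apply _ _ _).symm.trans h1

end Groth.Agent.H9RP
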