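import Groth.Agent.H9Gen.NatFam
import Groth.Agent.StModLib.SectBC

/-!
# Maps from finite free modules
-/

set_option autoImplicit false
set_option linter.style.haveILetI false
set_option backward.isDefEq.respectTransparency false
set_option backward.isDefEq.respectTransparency.types false

universe u

open CategoryTheory CategoryTheory.Limits AlgebraicGeometry
open Groth.Agent.StModLib Groth.Agent.H9Gen

noncomputable section

namespace Groth.Agent.H9RP

variable {S : Scheme.{u}} {𝒵 : AlgSt.Cat S}

theorem isSemiBC_pi {A B : Type u} [CommRing A] [CommRing B] (σ : A →+* B) (n : ℕ)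
    (l : (Fin n → A) →+ (Fin n → B)) (hl : ∀ x i, l x i = σ (x i)) : IsSemiBC σ l := by
  have h₁ : ∀ (r : A) (x : Fin n → A), l (r • x) = σ r • l x := fun r x => funext fun i => by
    simp [hl, map_mul]
  obtain ⟨L, hL⟩ := exists_tensor_map (σ := σ) l h₁
  letI := σ.toAlgebra
  refine isSemiBC_of_bijective' h₁ L hL ?_
  have : (L : TensorProduct A B (Fin n → A) → (Fin n → B)) = TensorProduct.piScalarRight A B B (Fin n) := funext fun t => by
    induction t using TensorProduct.induction_on with
    | zero => simp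
    | add a b ha hb => simp only [map_add, ha, hb]
    | tmul s x =>
      refine funext fun i => ?_
      rw [hL, TensorProduct.piScalarRight_apply, TensorProduct.piScalarRightHom_tmul, Pi.smul_apply, hl,
        smul_eq_mul]
      show s * σ (x i) = σ (x i) * s
      exact mul_comm _ _
  rw [this]
  exact (TensorProduct.piScalarRight A B B (Fin n)).bijective

/-- Compatible finite families of sections are images of the basis of a free module. -/
theorem exists_free_hom (hp : FibCat.IsFibGrpd 𝒵.p) (F : StMod.QCoh 𝒵) {n : ℕ}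
    (s : Fin n → ∀ y : Aff 𝒵, Γ(F.obj.obj y.1, ⊤))
    (hs : ∀ i {y' y : Aff 𝒵} (f : y'.1 ⟶ y.1), F.obj.mapTop f (s i y) = s i y') :
    ∃ (E : StMod.QCoh 𝒵) (φ : E ⟶ F), ∀ y : Aff 𝒵,
      ∃ e : Γ(E.obj.obj y.1, ⊤) ≃ₗ[Γ(StMod.sch 𝒵 y.1, ⊤)] (Fin n → Γ(StMod.sch 𝒵 y.1, ⊤)),
        ∀ x, (φ.hom.app y.1).app ⊤ x = ∑ i, e x i • s i y := by
  let N : DSys (Subtype.val : Aff 𝒵 → 𝒵.obj) :=
    { obj := fun y => Fin n → Γ(StMod.sch 𝒵 y.1, ⊤)
      res := fun {y' y} f => AddMonoidHom.mk' (fun x i => (StMod.bmap 𝒵 f).appTop (x i))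
        fun x x' => funext fun i => map_add _ (x i) (x' i)
      res_smul := fun f r x => funext fun i => map_mul (StMod.bmap 𝒵 f).appTop.hom r (x i)
      res_id := fun y x => funext fun i => by
        show (StMod.bmap 𝒵 (𝟙 y.1)).appTop (x i) = x i
        rw [StMod.bmap_id]; rfl
      res_comp := fun f g x => funext fun i => by
        show (StMod.bmap 𝒵 (f ≫ g)).appTop (x i) = (StMod.bmap 𝒵 f).appTop ((StMod.bmap 𝒵 g).appTop (x i))
        rw [StMod.bmap_comp]; rfl }
  have hBC : N.HasBC := fun y' y f _ _ => isSemiBC_pi _ n _ fun _ _ => rfl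
  obtain ⟨E, θ, hb, hl, hn⟩ := exists_qcoh_of_denseAff hp (isDense_aff hp) isStableAff_aff (fun y => y.2) N hBC
  obtain ⟨φ, hφ⟩ := exists_hom_of_denseAff hp (isDense_aff hp) isStableAff_aff (G := E.obj) F.property
    (fun y => AddMonoidHom.mk' (fun x => ∑ i, θ y x i • s i y) fun x x' => by
      rw [← Finset.sum_add_distrib]
      refine Finset.sum_congr rfl fun i _ => ?_
      rw [map_add]
      exact add_smul (θ y x i) (θ y x' i) (s i y))
    (fun y r x => by
      show ∑ i, θ y (r • x) i • s i y = r • ∑ i, θ y x i • s i y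
      rw [Finset.smul_sum]
      refine Finset.sum_congr rfl fun i _ => ?_
      rw [hl]
      exact mul_smul r (θ y x i) (s i y))
    (fun {y' y} f x => by
      show F.obj.mapTop f (∑ i, θ y x i • s i y) = ∑ i, θ y' (E.obj.mapTop f x) i • s i y'
      rw [hn]
      refine (map_sum (AddMonoidHom.mk' (F.obj.mapTop f) (F.obj.mapTop_add f)) _ _).trans
        (Finset.sum_congr rfl fun i _ => ?_)
      show F.obj.mapTop f (θ y x i • s i y) = _
      rw [StMod.Mod.mapTop_smul, hs]
      rfl)
  exact ⟨E, ⟨φ⟩, fun y => ⟨{ AddEquiv.ofBijective (θ y) (hb y) with map_smul' := hl y }, fun x => hφ y x⟩⟩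

end Groth.Agent.H9RP
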