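import Groth.Agent.StModLib.AffineMorExact
import Groth.Agent.H9Misc.DimOneDiag

/-!
# Faithfully flat presentations of affine flat surjective morphisms
-/

set_option autoImplicit false
set_option linter.style.haveILetI false
set_option backward.isDefEq.respectTransparency false
set_option backward.isDefEq.respectTransparency.types false

universe u

open CategoryTheory CategoryTheory.Functor CategoryTheory.Limits AlgebraicGeometry AlgSp Opposite
open Groth.Agent.AlgStLib Groth.Agent.AlgSpLib Groth.Agent.AlgSpPts Groth.Agent.FibBase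
open Groth.Agent.StModLib

noncomputable section

namespace Groth.Agent.H9RP

variable {S : Scheme.{u}} {𝒳 𝒴 : AlgSt.Cat S}

theorem isIso_eqToHom_left {A B : Over S} (e : A = B) : IsIso (eqToHom e).left :=
  inferInstanceAs (IsIso ((Over.forget S).map (eqToHom e)))

/-- An affine flat surjective morphism has faithfully flat one-object presentations over affine objects. -/
theorem exists_pres_ff (hp : FibCat.IsFibGrpd 𝒳.p) (hp' : FibCat.IsFibGrpd 𝒴.p) {π : 𝒳 ⥤ᵇ 𝒴}
    (hπ : AlgSt.RepByAlgSpWith IsAffineMor π) (hfl : AlgSt.RepByAlgSpWith (LocP @Flat) π)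
    (hsu : AlgSt.RepByAlgSpWith IsSurjectiveMor π) (η : 𝒴.obj) [IsAffine (StMod.sch 𝒴 η)] :
    ∃ c : Pres π η, (∀ j, c.a j = c.b j) ∧ Flat (StMod.baseOver π c.z c.α).left ∧
      Surjective (StMod.baseOver π c.z c.α).left := by
  obtain ⟨g, e, -⟩ := exists_overCat_obj hp' η rfl
  suffices ∃ c : Pres π (g.obj (topOver (𝒴.p.obj η))), (∀ j, c.a j = c.b j) ∧
      Flat (StMod.baseOver π c.z c.α).left ∧ Surjective (StMod.baseOver π c.z c.α).left by
    obtain ⟨c, hc, hf, hs⟩ := this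
    haveI := hf
    haveI := hs
    haveI : IsIso (StMod.bmap 𝒴 e.hom) := inferInstanceAs (IsIso (𝒴.p.map e.hom).left)
    refine ⟨c.ofIso e, hc, ?_⟩
    show Flat (StMod.baseOver π c.z (c.α ≫ e.hom)).left ∧ Surjective (StMod.baseOver π c.z (c.α ≫ e.hom)).left
    rw [StMod.baseOver_comp]
    exact ⟨inferInstanceAs (Flat (_ ≫ StMod.bmap 𝒴 e.hom)), inferInstanceAs (Surjective (_ ≫ StMod.bmap 𝒴 e.hom))⟩
  haveI : IsAffine (𝒴.p.obj η).left := ‹IsAffine (StMod.sch 𝒴 η)›
  obtain ⟨F, k, hk, ha⟩ := hπ (𝒴.p.obj η) g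
  have hflk := (RepOver.property_of_stableBC stableBC_locP (hfl _ g) k hk).2
  have hsuk := (RepOver.property_of_stableBC stableBC_isSurjectiveMor (hsu _ g) k hk).2
  obtain ⟨W, i, fst, sq, hW⟩ := ha (Z := (𝒴.p.obj η)) inferInstance (𝟙 _)
  haveI : IsIso fst := sq.isIso_fst_of_isIso
  have hif : Flat i.left := locP_yon_map (P := @Flat) (locP_of_isPullback sq F.property (IsAlgSpace.yon_obj _)
    (IsAlgSpace.yon_obj _) hflk)
  have his : Function.Surjective i.left := fun x => by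
    obtain ⟨x₁, h1⟩ := hsuk (Points.schemeHomeo _ x)
    obtain ⟨x₂, h2⟩ : ∃ x₂, Points.map fst x₂ = x₁ := ⟨Points.map (inv fst) x₁, by
      rw [← Points.map_comp, IsIso.inv_hom_id]; simp⟩
    obtain ⟨t, rfl⟩ := (Points.schemeHomeo W).surjective x₂
    refine ⟨t, (Points.schemeHomeo _).injective ?_⟩
    rw [← h1, ← h2, ← Points.map_comp, sq.w, Category.comp_id, Points.map_yon_map_eq]
    exact congrArg (fun t => (Points.schemeHomeo (𝒴.p.obj η)) (i.left t))
      ((Points.schemeHomeo W).symm_apply_apply t).symm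
  let K : AlgSt.ofSp ((yon S).obj W) ⥤ᵇ FibCat.fp g π := BasedFunctor.comp (AlgSt.ofSpMap fst) k
  have hK : FibCat.IsEquivOver K := isEquivOver_comp (isEquivOver_ofSpMap fst) hk
  let v₀ : (AlgSt.ofSp ((yon S).obj W)).obj := ⟨W, ⟨𝟙 W⟩⟩
  have hv₀ : ∀ y, ∃! m : y ⟶ v₀, True := fun y => by
    refine ⟨⟨y.sec.down, ULift.ext _ _ (show y.sec.down ≫ 𝟙 W = y.sec.down from Category.comp_id _)⟩, trivial, fun m _ => Stk.EltObj.hom_ext ?_⟩
    have := congrArg ULift.down m.map_sec
    exact (Category.comp_id _).symm.trans this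
  let v := K.obj v₀
  have hv := existsUnique_hom_map hK v₀ hv₀
  let top : ∀ x : (FibCat.fp g π).obj, (FibCat.fpFst g π).obj x ⟶ topOver (𝒴.p.obj η) := fun x =>
    Over.homMk x.obj.fst.hom (Category.comp_id _)
  have htop : ∀ (x : (FibCat.fp g π).obj) (b : (FibCat.fpFst g π).obj x ⟶ topOver (𝒴.p.obj η)), b = top x := fun x b =>
    Over.OverMorphism.ext ((Category.comp_id _).symm.trans (Over.w b))
  have hz : IsAffine (StMod.sch 𝒳 v.obj.snd) := by
    show IsAffine (𝒳.p.obj v.obj.snd).left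
    show IsAffine (𝒳.p.obj ((FibCat.fpSnd g π).obj v)).left
    rw [((FibCat.fpSnd g π).w_obj v).trans (K.w_obj v₀)]
    exact hW
  refine ⟨{
    z := v.obj.snd, affz := hz, α := transMor g π v (top v), n := 1, w := fun _ => v.obj.snd, affw := fun _ => hz
    a := fun _ => 𝟙 _, b := fun _ => 𝟙 _, eq := fun _ => rfl
    cov := fun ξ γ => ?_, rel := fun y p q h => ?_ }, fun _ => rfl, ?_⟩
  · obtain ⟨x, rfl, β, hβ⟩ := exists_fp_obj g π (isFibGrpd_overCat (𝒴.p.obj η)) hp' ξ γ
    rw [eqToHom_refl, π.map_id, Category.id_comp] at hβ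
    obtain ⟨m, -, -⟩ := hv x
    refine ⟨PUnit, fun _ => x.obj.snd, fun _ => 𝟙 _, ⟨fun _ => ?_, fun _ => ?_, fun t => ⟨⟨⟩, t, ?_⟩⟩,
      fun _ => ⟨m.hom.snd, ?_⟩⟩
    · rw [StMod.bmap_id]; infer_instance
    · rw [StMod.bmap_id]; infer_instance
    · rw [StMod.bmap_id]; rfl
    · rw [transMor_natural, π.map_id, Category.id_comp, ← hβ, htop x β, htop x ((FibCat.fpFst g π).map m ≫ top v)]
  · obtain ⟨x, rfl, β, hβ⟩ := exists_fp_obj g π (isFibGrpd_overCat (𝒴.p.obj η)) hp' y (π.map p ≫ transMor g π v (top v))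
    rw [eqToHom_refl, π.map_id, Category.id_comp] at hβ
    obtain ⟨mp, hmp, -⟩ := exists_fp_hom g π (isFibGrpd_overCat (𝒴.p.obj η)) hp' β (top v) p hβ.symm
    obtain ⟨mq, hmq, -⟩ := exists_fp_hom g π (isFibGrpd_overCat (𝒴.p.obj η)) hp' β (top v) q (h.symm.trans hβ.symm)
    have hpq : p = q := by
      obtain ⟨m, -, hu⟩ := hv x
      rw [← hmp, ← hmq, (hu mp trivial).trans (hu mq trivial).symm]
    subst hpq
    refine ⟨PUnit, fun _ => x.obj.snd, fun _ => 𝟙 _, ⟨fun _ => ?_, fun _ => ?_, fun t => ⟨⟨⟩, t, ?_⟩⟩,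
      fun _ => ⟨0, p, by simp, by simp⟩⟩
    · rw [StMod.bmap_id]; infer_instance
    · rw [StMod.bmap_id]; infer_instance
    · rw [StMod.bmap_id]; rfl
  · let Φ := BasedFunctor.comp k (FibCat.fpFst g π)
    let o := (AlgSt.ofSpMap fst).obj v₀
    have hsec : AlgSt.secHom Φ o = i := by
      have := congrArg (fun m => (m.hom.app (op W) ⟨𝟙 W⟩).down) (sq.w.trans (Category.comp_id _))
      exact this.trans (Category.id_comp i)
    have h1 : (Φ.obj o).hom = eqToHom (Φ.w_obj o) ≫ i := by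
      rw [← hsec]
      simp [AlgSt.secHom]
    have h2 : ((top v).left : _ ⟶ _) = (Φ.obj o).hom := rfl
    haveI := hif
    haveI : Surjective i.left := ⟨his⟩
    haveI := isIso_eqToHom_left (Φ.w_obj o)
    show Flat (StMod.baseOver π v.obj.snd (transMor g π v (top v))).left ∧
      Surjective (StMod.baseOver π v.obj.snd (transMor g π v (top v))).left
    rw [baseOver_transMor]
    haveI : ∀ {A B : Over S} (e : A = B), IsIso (eqToHom e).left := fun e => isIso_eqToHom_left e
    simp only [StMod.baseOver, Over.comp_left]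
    have h3 : ((FibCat.overCat (𝒴.p.obj η)).p.map (top v)).left = (eqToHom (Φ.w_obj o)).left ≫ i.left :=
      (congrArg CommaMorphism.left h1).trans (Over.comp_left _ _ _ _ _)
    rw [h3]
    exact ⟨inferInstance, inferInstance⟩

end Groth.Agent.H9RP
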