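import Groth.Agent.H9RP.Unit
import Groth.Agent.H9RP.PresFF
import Groth.Agent.H9RP.FMemCover
import Groth.Agent.H9RP.Free

/-!
# Stacks covered affinely and flatly by an affine scheme: the standing data
-/

set_option autoImplicit false
set_option linter.style.haveILetI false
set_option linter.unusedSectionVars false
set_option backward.isDefEq.respectTransparency false
set_option backward.isDefEq.respectTransparency.types false

universe u

open CategoryTheory CategoryTheory.Limits AlgebraicGeometry AlgSp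
open Groth.Agent.AlgStLib Groth.Agent.AlgSpLib Groth.Agent.FibBase Groth.Agent.StModLib

noncomputable section

namespace Groth.Agent.H9RP

variable {S : Scheme.{u}} {𝒳 : AlgSt.Cat S} {U : Over S}

/-- An affine flat cover of a stack by an affine scheme, with an atlas and flat members covering the cover. -/
structure Setup (u : FibCat.overCat U ⥤ᵇ 𝒳) where
  hp : FibCat.IsFibGrpd 𝒳.p
  aff : IsAffine U.left
  hua : AlgSt.RepByAlgSpWith IsAffineMor u
  huf : AlgSt.RepByAlgSpWith (LocP @Flat) u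
  hus : AlgSt.RepByAlgSpWith IsSurjectiveMor u
  /-- the atlas object -/
  x₀ : 𝒳.obj
  P : PairAtlas x₀
  hd : IsDenseObj x₀
  /-- the index of the covering -/
  J : Type u
  /-- the members covering the cover -/
  z : J → FMem x₀
  /-- the covering -/
  φ : ∀ j, (z j).1 ⟶ u.obj (topOver U)
  cov : IsCov (fun j => (z j).1) φ

theorem nonempty_setup (h𝒳 : AlgSt.IsAlgStack Scheme.fppfPrecoverage 𝒳) [IsAffine U.left]
    (u : FibCat.overCat U ⥤ᵇ 𝒳) (hua : AlgSt.RepByAlgSpWith IsAffineMor u)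
    (huf : AlgSt.RepByAlgSpWith (LocP @Flat) u) (hus : AlgSt.RepByAlgSpWith IsSurjectiveMor u) :
    Nonempty (Setup u) := by
  obtain ⟨Ua, a, hsm, hsu⟩ := h𝒳.atlas
  have hp := h𝒳.isStack.1
  have hfl : AlgSt.RepByAlgSpWith (LocP @Flat) a := repByAlgSpWith_mono (fun _ _ _ h =>
    locP_mono (Q := @Flat) (fun _ _ k (_ : Smooth k) => inferInstanceAs (Flat k)) h) hsm
  have hx := locSurjObj_of_locEssSurj hp (locEssSurj_of_repByAlgSp hfl
    (repByAlgSpWith_mono (fun _ _ _ h => locP_mono (Q := @LocallyOfFinitePresentation)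
      (fun _ _ k (_ : Smooth k) => inferInstanceAs (LocallyOfFinitePresentation k)) h) hsm) hsu)
  have hd : IsDenseObj (a.obj (topOver Ua)) := fun η => by
    obtain ⟨R, hR, hR'⟩ := hx η
    obtain ⟨ι, y, φ, hc, hP⟩ := exists_isCov_of_mem_J η hR (P := fun y _ => Nonempty (y ⟶ a.obj (topOver Ua)))
      fun V h hh => by
        obtain ⟨x', k, hk⟩ := hR' h hh
        exact ⟨a.obj x', k, hk, ⟨a.map (Over.homMk x'.hom (Category.comp_id _) : x' ⟶ topOver Ua)⟩⟩
    exact ⟨ι, y, φ, hc, hP⟩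
  obtain ⟨J, z, φ, hc⟩ := exists_fmem_cover u a huf hsm hsu
  exact ⟨⟨hp, inferInstance, hua, huf, hus, _, (nonempty_pairAtlas hp a hfl).some, hd, J, z, φ, hc⟩⟩

variable {u : FibCat.overCat U ⥤ᵇ 𝒳} (D : Setup u)

/-- The affine scheme as an object of its category. -/
abbrev topU (U : Over S) : (FibCat.overCat U : AlgSt.Cat S).obj := topOver U

theorem isAffine_image {V : (FibCat.overCat U : AlgSt.Cat S).obj}
    (h : IsAffine (StMod.sch (FibCat.overCat U : AlgSt.Cat S) V)) : IsAffine (StMod.sch 𝒳 (u.obj V)) := by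
  haveI := h
  exact IsAffine.of_isIso (eqToHom (StMod.sch_obj_eq u V))

namespace Setup

include D in
theorem affTop : IsAffine (StMod.sch (FibCat.overCat U : AlgSt.Cat S) (topU U)) := D.aff

include D in
theorem affX₁ : IsAffine (StMod.sch 𝒳 (u.obj (topU U))) := isAffine_image D.affTop

theorem isFibGrpd_over : FibCat.IsFibGrpd (FibCat.overCat U : AlgSt.Cat S).p := isFibGrpd_overCat U

/-- Faithfully flat presentations. -/
def pres (η : 𝒳.obj) (hη : IsAffine (StMod.sch 𝒳 η)) : Pres u η :=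
  haveI := hη
  (exists_pres_ff isFibGrpd_over D.hp D.hua D.huf D.hus η).choose

theorem pres_spec (η : 𝒳.obj) (hη : IsAffine (StMod.sch 𝒳 η)) :
    (∀ j, (D.pres η hη).a j = (D.pres η hη).b j) ∧
      Flat (StMod.baseOver u (D.pres η hη).z (D.pres η hη).α).left ∧
      Surjective (StMod.baseOver u (D.pres η hη).z (D.pres η hη).α).left :=
  haveI := hη
  (exists_pres_ff isFibGrpd_over D.hp D.hua D.huf D.hus η).choose_spec

theorem pres_bmap (η : 𝒳.obj) (hη : IsAffine (StMod.sch 𝒳 η)) :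
    Flat (StMod.bmap 𝒳 (D.pres η hη).α) ∧ Surjective (StMod.bmap 𝒳 (D.pres η hη).α) := by
  obtain ⟨-, h1, h2⟩ := D.pres_spec η hη
  set c := D.pres η hη
  haveI := h1
  haveI := h2
  haveI : ∀ {A B : Over S} (e : A = B), IsIso (eqToHom e).left := fun e => isIso_eqToHom_left e
  have e : StMod.bmap 𝒳 c.α = (eqToHom (u.w_obj c.z)).left ≫ (StMod.baseOver u c.z c.α).left := by
    rw [← Over.comp_left]
    show (𝒳.p.map c.α).left = (eqToHom (u.w_obj c.z) ≫ eqToHom (u.w_obj c.z).symm ≫ 𝒳.p.map c.α).left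
    rw [eqToHom_trans_assoc, eqToHom_refl, Category.id_comp]
  rw [e]
  exact ⟨inferInstance, inferInstance⟩

theorem eq_zero_pres (G : StMod.QCoh 𝒳) (η : 𝒳.obj) (hη : IsAffine (StMod.sch 𝒳 η)) (g : Γ(G.obj.obj η, ⊤))
    (h : G.obj.mapTop (D.pres η hη).α g = 0) : g = 0 :=
  eq_zero_of_affCov (J := PUnit.{u + 1}) (fun _ => (D.pres η hη).α) hη (fun _ => isAffine_image (D.pres η hη).affz)
    (fun _ => (D.pres_bmap η hη).1) (fun t => ⟨PUnit.unit, (D.pres_bmap η hη).2.surj t⟩) G g fun _ => h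

theorem eq_zero_fmem (G : StMod.QCoh 𝒳) (g : Γ(G.obj.obj (u.obj (topU U)), ⊤))
    (h : ∀ j, G.obj.mapTop (D.φ j) g = 0) : g = 0 :=
  eq_zero_of_affCov D.φ D.affX₁ (fun j => (D.z j).2.1) D.cov.flat D.cov.surj G g h

include D in
theorem nonempty_pres (η : 𝒳.obj) (hη : IsAffine (StMod.sch 𝒳 η)) : Nonempty (Pres u η) := ⟨D.pres η hη⟩

/-- The pushforwards. -/
def push (E : StMod.QCoh (FibCat.overCat U : AlgSt.Cat S)) : Pushed u D.x₀ E :=
  (nonempty_pushed u D.hp D.P D.hd isFibGrpd_over D.nonempty_pres E).some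

include D in
theorem unitLin_injective (F : StMod.QCoh 𝒳) (η : 𝒳.obj) (hη : IsAffine (StMod.sch 𝒳 η)) :
    Function.Injective (unitLin u F η) := by
  rw [injective_iff_map_eq_zero]
  intro g hg
  refine D.eq_zero_pres F η hη g ?_
  have h := congrArg (fun s => cmp u F.obj _ (s.1 (D.pres η hη).z (D.pres η hη).α)) hg
  simp only [unitLin_val, AddEquiv.apply_symm_apply] at h
  rw [h]
  exact map_zero (cmp u F.obj _)

include D in
theorem isSurj_comap_of_top {E F : StMod.QCoh (FibCat.overCat U : AlgSt.Cat S)} (a : E ⟶ F)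
    (h : Function.Surjective ((a.hom.app (topU U)).app ⊤)) (y : (FibCat.overCat U : AlgSt.Cat S).obj)
    (hy : IsAffine (StMod.sch (FibCat.overCat U : AlgSt.Cat S) y)) : Function.Surjective ((a.hom.app y).app ⊤) := by
  intro g
  show g ∈ LinearMap.range (appLin a y)
  refine Submodule.span_le.2 ?_ (mem_span_res F (toTopOver y) hy D.affTop g)
  rintro _ ⟨m, rfl⟩
  obtain ⟨e, rfl⟩ := h m
  exact ⟨E.obj.mapTop (toTopOver y) e, (StMod.Mod.mapTop_app a.hom (toTopOver y) e).symm⟩

end Setup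

end Groth.Agent.H9RP
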