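import Groth.Agent.H9RP.AffSetup

/-!
# The largest submodule inside the image of a map on the cover
-/

set_option autoImplicit false
set_option linter.style.haveILetI false
set_option linter.unusedSectionVars false
set_option backward.isDefEq.respectTransparency false
set_option backward.isDefEq.respectTransparency.types false

universe u

open CategoryTheory CategoryTheory.Limits AlgebraicGeometry AlgSp
open Groth.Agent.FibBase Groth.Agent.StModLib

noncomputable section

namespace Groth.Agent.H9RP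

variable {S : Scheme.{u}} {𝒳 : AlgSt.Cat S} {U : Over S} {u : FibCat.overCat U ⥤ᵇ 𝒳}

/-- The sections of a pushforward as a linear map. -/
def Pushed.θLin {𝒵 : AlgSt.Cat S} {π : 𝒵 ⥤ᵇ 𝒳} {x₀ : 𝒳.obj} {E : StMod.QCoh 𝒵} (K : Pushed π x₀ E)
    (p : FMem x₀) : Γ(K.mod.obj.obj p.1, ⊤) →ₗ[Γ(StMod.sch 𝒳 p.1, ⊤)] StMod.Mod.RelSect π E.obj p.1 where
  toFun := K.θ p
  map_add' := map_add _
  map_smul' r x := K.lin p r x

/-- The image of a map on the cover, among the sections over the cover. -/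
def imgTop {F : StMod.QCoh 𝒳} {E : StMod.QCoh (FibCat.overCat U : AlgSt.Cat S)}
    (φ : E ⟶ (StMod.comapQ u).obj F) :
    Submodule Γ(StMod.sch 𝒳 (u.obj (topU U)), ⊤) Γ(F.obj.obj (u.obj (topU U)), ⊤) :=
  Submodule.span _ (Set.range fun e => cmp u F.obj (topU U) (appLin φ (topU U) e))

theorem mem_imgTop {F : StMod.QCoh 𝒳} {E : StMod.QCoh (FibCat.overCat U : AlgSt.Cat S)}
    (φ : E ⟶ (StMod.comapQ u).obj F) (e : Γ(E.obj.obj (topU U), ⊤)) :
    cmp u F.obj (topU U) (appLin φ (topU U) e) ∈ imgTop φ :=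
  Submodule.subset_span ⟨e, rfl⟩

variable (D : Setup u)

include D in
/-- Values of a map on the cover lie in the span of the restrictions of its image. -/
theorem res_img_mem {F : StMod.QCoh 𝒳} {E : StMod.QCoh (FibCat.overCat U : AlgSt.Cat S)}
    (φ : E ⟶ (StMod.comapQ u).obj F) {w : 𝒳.obj} (f : w ⟶ u.obj (topU U))
    (V : (FibCat.overCat U : AlgSt.Cat S).obj) (hV : IsAffine (StMod.sch (FibCat.overCat U : AlgSt.Cat S) V))
    (k : w ⟶ u.obj V) (hk : k ≫ u.map (toTopOver V) = f) (e : Γ(E.obj.obj V, ⊤)) :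
    F.obj.mapTop k (cmp u F.obj V (appLin φ V e)) ∈
      Submodule.span Γ(StMod.sch 𝒳 w, ⊤) (res F f '' (imgTop φ)) := by
  refine Submodule.span_induction
    (p := fun e _ => F.obj.mapTop k (cmp u F.obj V (appLin φ V e)) ∈ Submodule.span _ _) ?_ ?_ ?_ ?_
    (mem_span_res E (toTopOver V) hV D.affTop e)
  · rintro _ ⟨e₀, rfl⟩
    refine Submodule.subset_span ⟨_, mem_imgTop φ e₀, ?_⟩
    show F.obj.mapTop f (cmp u F.obj (topU U) (appLin φ (topU U) e₀)) =
      F.obj.mapTop k (cmp u F.obj V (appLin φ V (E.obj.mapTop (toTopOver V) e₀)))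
    rw [← appLin_mapTop, ← hk, StMod.Mod.mapTop_comp]
    exact congrArg (F.obj.mapTop k) (cmp_mapTop u F.obj (toTopOver V) _).symm
  · rw [map_zero, map_zero, StMod.Mod.mapTop_zero]
    exact zero_mem _
  · intro a b _ _ ha hb
    rw [map_add, map_add, StMod.Mod.mapTop_add]
    exact add_mem ha hb
  · intro r a _ ha
    rw [map_smul]
    erw [cmp_smul]
    rw [StMod.Mod.mapTop_smul]
    exact Submodule.smul_mem _ _ ha

include D in
/-- The largest submodule of `F` inside the image of a map on the cover. -/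
theorem exists_sub (F : StMod.QCoh 𝒳) {E : StMod.QCoh (FibCat.overCat U : AlgSt.Cat S)}
    (φ : E ⟶ (StMod.comapQ u).obj F) :
    ∃ (L : StMod.QCoh 𝒳) (ι : L ⟶ F), Function.Injective (appLin ι (u.obj (topU U))) ∧
      LinearMap.range (appLin ι (u.obj (topU U))) ≤ imgTop φ ∧
      ∀ g (s : StMod.Mod.RelSect u E.obj (u.obj (topU U))),
        StMod.Mod.relSectMap u φ.hom _ s = unitLin u F _ g → g ∈ LinearMap.range (appLin ι (u.obj (topU U))) := by
  let K := D.push E
  let H := D.push ((StMod.comapQ u).obj F)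
  obtain ⟨a, ha⟩ := H.exists_hom D.hp D.P D.hd (G := K.mod)
    (fun p => (StMod.Mod.relSectMap u φ.hom p.1).comp (K.θLin p))
    fun {p q} f x => by
      show relRes f _ (StMod.Mod.relSectMap u φ.hom q.1 (K.θ q x)) = _
      rw [relRes_map, ← K.nat]
      rfl
  obtain ⟨b, hb⟩ := H.exists_hom D.hp D.P D.hd (G := F) (fun p => unitLin u F p.1)
    fun {p q} f x => relRes_unitLin u F f x
  obtain ⟨L, ι, hι⟩ := exists_preimage D.hp D.P D.hd a b
  refine ⟨L, ι, ?_, ?_, fun g s hs => ?_⟩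
  · rw [injective_iff_map_eq_zero]
    intro l hl
    refine D.eq_zero_fmem L l fun j => (hι (D.z j)).1 ?_
    rw [map_zero, ← appLin_mapTop, hl, StMod.Mod.mapTop_zero]
  · rintro _ ⟨l, rfl⟩
    refine mem_of_affCov D.φ D.affX₁ (fun j => (D.z j).2.1) D.cov.flat D.cov.surj F _ _ fun j => ?_
    obtain ⟨k, hk⟩ := ((hι (D.z j)).2 _).1 ⟨L.obj.mapTop (D.φ j) l, rfl⟩
    have h1 := congrArg (H.θ (D.z j)) hk
    rw [ha, hb, ← appLin_mapTop] at h1
    obtain ⟨V, i, h, hi, -⟩ := exists_obj_over D.hp u (D.φ j)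
    haveI : IsIso (StMod.bmap 𝒳 i.hom) := inferInstanceAs (IsIso (𝒳.p.map i.hom).left)
    haveI := (D.z j).2.1
    have hV : IsAffine (StMod.sch (FibCat.overCat U : AlgSt.Cat S) V) :=
      IsAffine.of_isIso (inv (eqToHom (StMod.sch_obj_eq u V)) ≫ StMod.bmap 𝒳 i.hom)
    have h2 := congrArg (fun s => cmp u F.obj V (s.1 V i.hom)) h1
    simp only [unitLin_val, AddEquiv.apply_symm_apply] at h2
    have key := res_img_mem D φ (D.φ j) V hV i.inv (by rw [← hi, Iso.inv_hom_id_assoc]) ((K.θ (D.z j) k).1 V i.hom)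
    rw [show cmp u F.obj V (appLin φ V ((K.θ (D.z j) k).1 V i.hom)) = _ from h2, ← StMod.Mod.mapTop_comp,
      Iso.inv_hom_id, StMod.Mod.mapTop_id] at key
    exact key
  · refine mem_of_affCov D.φ D.affX₁ (fun j => (D.z j).2.1) D.cov.flat D.cov.surj F _ g fun j => ?_
    obtain ⟨l, hl⟩ := ((hι (D.z j)).2 (F.obj.mapTop (D.φ j) g)).2 (by
      obtain ⟨k, hk⟩ := (K.bij (D.z j)).2 (relRes (D.φ j) E.obj s)
      refine ⟨k, (H.bij _).1 ?_⟩
      rw [ha, hb]
      show StMod.Mod.relSectMap u φ.hom _ (K.θ (D.z j) k) = _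
      rw [hk, ← relRes_unitLin, ← hs]
      exact (relRes_map _ _ _ _).symm)
    show res F (D.φ j) g ∈ _
    rw [res_apply, ← hl]
    refine Submodule.span_induction (p := fun l _ => appLin ι (D.z j).1 l ∈ Submodule.span _ _) ?_ ?_ ?_ ?_
      (mem_span_res L (D.φ j) (D.z j).2.1 D.affX₁ l)
    · rintro _ ⟨l₀, rfl⟩
      exact Submodule.subset_span ⟨_, ⟨l₀, rfl⟩, appLin_mapTop ι (D.φ j) l₀⟩
    · rw [map_zero]; exact zero_mem _
    · intro p q _ _ hp hq
      rw [map_add]; exact add_mem hp hq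
    · intro r p _ hp
      rw [map_smul]; exact Submodule.smul_mem _ r hp

end Groth.Agent.H9RP
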