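import Groth.Agent.StModLib.SemiPull
import Groth.Agent.CodimExt16.Basic
import Mathlib.RingTheory.Flat.TorsionFree
import Mathlib.RingTheory.Flat.Localization

/-!
# Descent of membership along flat covering families of rings; submodules of flat modules in dimension at most one
-/

set_option autoImplicit false
set_option linter.style.haveILetI false

universe w u

open TensorProduct

namespace Groth.Agent.H9RP

open Groth.Agent.StModLib

variable {A : Type u} [CommRing A]

/-- An element which dies in every member of a flat covering family is zero. -/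
theorem eq_zero_of_one_tmul {ι : Type*} {B : ι → Type u} [∀ j, CommRing (B j)] [∀ j, Algebra A (B j)]
    [∀ j, Module.Flat A (B j)]
    (hcov : ∀ p : PrimeSpectrum A, ∃ (j : ι) (q : PrimeSpectrum (B j)),
      PrimeSpectrum.comap (algebraMap A (B j)) q = p)
    {M : Type w} [AddCommGroup M] [Module A M] (m : M) (h : ∀ j, ((1 : B j) ⊗ₜ[A] m : B j ⊗[A] M) = 0) : m = 0 := by
  by_contra hne
  let I : Ideal A := LinearMap.ker (LinearMap.toSpanSingleton A M m)
  have hI : I ≠ ⊤ := fun hI => hne <| by
    have h1 : (1 : A) ∈ I := hI ▸ Submodule.mem_top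
    simpa [I] using h1
  obtain ⟨p, hp, hle⟩ := Ideal.exists_le_maximal I hI
  obtain ⟨j, q, hq⟩ := hcov ⟨p, hp.isPrime⟩
  let e : A ⧸ I →ₗ[A] M := I.liftQ (LinearMap.toSpanSingleton A M m) le_rfl
  have he : Function.Injective e := by
    rw [← LinearMap.ker_eq_bot]
    exact Submodule.ker_liftQ_eq_bot' _ _ rfl
  have h2 : ((1 : B j) ⊗ₜ[A] (Submodule.Quotient.mk (1 : A) : A ⧸ I)) = 0 :=
    Module.Flat.lTensor_preserves_injective_linearMap (M := B j) e he (by
      rw [map_zero, LinearMap.lTensor_tmul]
      convert h j using 2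
      exact (Submodule.liftQ_apply _ _ _).trans (LinearMap.toSpanSingleton_apply_one A M m))
  have h3 : (1 : B j) ∈ I • (⊤ : Submodule A (B j)) := by
    have := congrArg (TensorProduct.tensorQuotEquivQuotSMul (B j) I) h2
    rw [map_zero] at this
    have e' := (TensorProduct.tensorQuotEquivQuotSMul_tmul_mk (M := B j) I 1 (1 : A)).symm.trans this
    rw [one_smul] at e'
    exact (Submodule.Quotient.mk_eq_zero _).1 e'
  have h4 : I • (⊤ : Submodule A (B j)) ≤ q.asIdeal.restrictScalars A := by
    refine Submodule.smul_le.2 fun a ha b _ => ?_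
    show a • b ∈ q.asIdeal
    rw [Algebra.smul_def]
    refine q.asIdeal.mul_mem_right _ ?_
    have : q.asIdeal.comap (algebraMap A (B j)) = p := congrArg PrimeSpectrum.asIdeal hq
    rw [← Ideal.mem_comap, this]
    exact hle ha
  exact q.isPrime.ne_top ((Ideal.eq_top_iff_one _).2 (h4 h3))

variable {ι : Type*} {B : ι → Type u} [∀ j, CommRing (B j)] {σ : ∀ j, A →+* B j}

/-- Membership in a submodule descends along flat covering families. -/
theorem mem_of_cover {M : Type w} [AddCommGroup M] [Module A M] {N : ι → Type w} [∀ j, AddCommGroup (N j)]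
    [∀ j, Module (B j) (N j)] (l : ∀ j, M →+ N j) (hbc : ∀ j, IsSemiBC (σ j) (l j)) (hflat : ∀ j, (σ j).Flat)
    (hcov : ∀ p : PrimeSpectrum A, ∃ (j : ι) (q : PrimeSpectrum (B j)), PrimeSpectrum.comap (σ j) q = p)
    (P : Submodule A M) (m : M) (h : ∀ j, l j m ∈ Submodule.span (B j) (l j '' (P : Set M))) : m ∈ P := by
  letI : ∀ j, Algebra A (B j) := fun j => (σ j).toAlgebra
  haveI : ∀ j, Module.Flat A (B j) := fun j => hflat j
  refine (Submodule.Quotient.mk_eq_zero P).1 (eq_zero_of_one_tmul (B := B) hcov _ fun j => ?_)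
  obtain ⟨L, hL⟩ := exists_tensor_map (σ := σ j) (l j) (hbc j).choose
  have hb := bijective_of_isSemiBC (hbc j) L hL
  have key : ∀ n ∈ Submodule.span (B j) (l j '' (P : Set M)),
      ∃ t : B j ⊗[A] P, L (P.subtype.lTensor (B j) t) = n := fun n hn => by
    induction hn using Submodule.span_induction with
    | mem x hx =>
      obtain ⟨p, hp, rfl⟩ := hx
      exact ⟨1 ⊗ₜ ⟨p, hp⟩, by rw [LinearMap.lTensor_tmul]; exact (hL 1 p).trans (one_smul (B j) (l j p))⟩
    | zero => exact ⟨0, by rw [map_zero, map_zero]⟩
    | add x y _ _ hx hy =>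
      obtain ⟨tx, hx⟩ := hx
      obtain ⟨ty, hy⟩ := hy
      exact ⟨tx + ty, by rw [map_add, map_add, hx, hy]⟩
    | smul b x hmem hx =>
      obtain ⟨tx, rfl⟩ := hx
      refine ⟨b • tx, ?_⟩
      clear hmem
      induction tx using TensorProduct.induction_on with
      | zero => simp
      | add u v hu hv => simp only [smul_add, map_add, hu, hv]
      | tmul s p =>
        rw [TensorProduct.smul_tmul', LinearMap.lTensor_tmul, LinearMap.lTensor_tmul, hL, hL, smul_smul]
        rfl
  obtain ⟨t, ht⟩ := key _ (h j)
  have h1 : P.subtype.lTensor (B j) t = (1 : B j) ⊗ₜ[A] m :=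
    hb.1 (ht.trans ((hL 1 m).trans (one_smul (B j) (l j m))).symm)
  have h2 := congrArg (P.mkQ.lTensor (B j)) h1
  rw [← LinearMap.lTensor_comp_apply, LinearMap.lTensor_tmul] at h2
  have h0 : P.mkQ.comp P.subtype = 0 := LinearMap.ext fun p => (Submodule.Quotient.mk_eq_zero P).2 p.2
  rw [h0, LinearMap.lTensor_zero] at h2
  exact h2.symm

/-- An element vanishing over a flat covering family is zero. -/
theorem eq_zero_of_cover {M : Type w} [AddCommGroup M] [Module A M] {N : ι → Type w} [∀ j, AddCommGroup (N j)]
    [∀ j, Module (B j) (N j)] (l : ∀ j, M →+ N j) (hbc : ∀ j, IsSemiBC (σ j) (l j)) (hflat : ∀ j, (σ j).Flat)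
    (hcov : ∀ p : PrimeSpectrum A, ∃ (j : ι) (q : PrimeSpectrum (B j)), PrimeSpectrum.comap (σ j) q = p)
    (m : M) (h : ∀ j, l j m = 0) : m = 0 :=
  (Submodule.mem_bot A).1 (mem_of_cover l hbc hflat hcov ⊥ m fun j => by rw [h j]; exact zero_mem _)

/-- Flatness descends along flat covering families. -/
theorem flat_of_cover {M : Type u} [AddCommGroup M] [Module A M] {N : ι → Type u} [∀ j, AddCommGroup (N j)]
    [∀ j, Module (B j) (N j)] (l : ∀ j, M →+ N j) (hbc : ∀ j, IsSemiBC (σ j) (l j)) (hflat : ∀ j, (σ j).Flat)
    (hcov : ∀ p : PrimeSpectrum A, ∃ (j : ι) (q : PrimeSpectrum (B j)), PrimeSpectrum.comap (σ j) q = p)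
    (hN : ∀ j, Module.Flat (B j) (N j)) : Module.Flat A M := by
  letI : ∀ j, Algebra A (B j) := fun j => (σ j).toAlgebra
  haveI : ∀ j, Module.Flat A (B j) := fun j => hflat j
  haveI hBM : ∀ j, Module.Flat A (B j ⊗[A] M) := fun j => by
    obtain ⟨L, hL⟩ := exists_tensor_map (σ := σ j) (l j) (hbc j).choose
    haveI := hN j
    have hlin : ∀ (b : B j) (t : B j ⊗[A] M), L (b • t) = b • L t := fun b t => by
      induction t using TensorProduct.induction_on with
      | zero => simp
      | add u v hu hv => simp only [smul_add, map_add, hu, hv]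
      | tmul s x =>
        rw [TensorProduct.smul_tmul', hL, hL, smul_smul]
        rfl
    haveI : Module.Flat (B j) (B j ⊗[A] M) := Module.Flat.of_linearEquiv
      (LinearEquiv.ofBijective ({ toFun := L, map_add' := map_add L, map_smul' := hlin } : B j ⊗[A] M →ₗ[B j] N j)
        (bijective_of_isSemiBC (hbc j) L hL))
    exact Module.Flat.trans A (B j) _
  refine Module.Flat.iff_rTensor_preserves_injective_linearMap.mpr fun P P' _ _ _ _ f hf => ?_
  rw [← LinearMap.ker_eq_bot, eq_bot_iff]
  intro x hx
  rw [LinearMap.mem_ker] at hx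
  refine (Submodule.mem_bot A).2 (eq_zero_of_one_tmul (B := B) hcov x fun j => ?_)
  have key : ∀ t : B j ⊗[A] (P ⊗[A] M), TensorProduct.leftComm A (B j) P' M ((f.rTensor M).lTensor (B j) t) =
      f.rTensor (B j ⊗[A] M) (TensorProduct.leftComm A (B j) P M t) := fun t => by
    induction t using TensorProduct.induction_on with
    | zero => simp
    | add u v hu hv => simp only [map_add, hu, hv]
    | tmul b y =>
      induction y using TensorProduct.induction_on with
      | zero => simp
      | add u v hu hv => simp only [TensorProduct.tmul_add, map_add, hu, hv]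
      | tmul p m => simp
  refine (TensorProduct.leftComm A (B j) P M).injective
    (Module.Flat.rTensor_preserves_injective_linearMap f hf ?_)
  rw [← key, map_zero, map_zero, LinearMap.lTensor_tmul, hx, TensorProduct.tmul_zero, map_zero]

/-- Submodules of flat modules over rings all of whose local rings are regular of dimension at most one are flat. -/
theorem flat_submodule (hA : ∀ (P : Ideal A) [P.IsMaximal],
      IsRegularLocalRing (Localization.AtPrime P) ∧ ringKrullDim (Localization.AtPrime P) ≤ 1)
    {M : Type w} [AddCommGroup M] [Module A M] [Module.Flat A M] (N : Submodule A M) : Module.Flat A N := by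
  refine Module.flat_of_localized_maximal _ fun P hP => ?_
  let R := Localization.AtPrime P
  obtain ⟨hr, hd⟩ := hA P
  haveI := hr
  haveI : IsDomain R := RegLoc6.isDomain_of_isRegularLocalRing R
  haveI := CodimExt16.valuationRing_of_regular R hd
  haveI : Module.Flat R (LocalizedModule P.primeCompl M) :=
    Module.Flat.of_linearEquiv (LocalizedModule.equivTensorProduct P.primeCompl M)
  let f : LocalizedModule P.primeCompl N →ₗ[R] LocalizedModule P.primeCompl M :=
    LocalizedModule.map P.primeCompl N.subtype
  have hf : Function.Injective f := LocalizedModule.map_injective P.primeCompl _ N.injective_subtype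
  haveI : Module.Flat R (LocalizedModule P.primeCompl N) := by
    rw [Module.Flat.flat_iff_torsion_eq_bot_of_isBezout, ← Submodule.isTorsionFree_iff_torsion_eq_bot]
    exact hf.moduleIsTorsionFree f f.map_smul
  exact Module.Flat.trans A R _

end Groth.Agent.H9RP
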