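import Groth.Agent.StModLib.PushQCoh

/-!
# Preimages of images in quasi-coherent modules
-/

set_option autoImplicit false
set_option linter.style.haveILetI false
set_option linter.unusedSectionVars false
set_option backward.isDefEq.respectTransparency false
set_option backward.isDefEq.respectTransparency.types false

universe u

open CategoryTheory CategoryTheory.Limits AlgebraicGeometry
open Groth.Agent.StModLib

noncomputable section

namespace Groth.Agent.H9RP

variable {S : Scheme.{u}} {𝒳 : AlgSt.Cat S}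

/-- The linear map of a morphism at an object. -/
def appLin {G G' : StMod.QCoh 𝒳} (a : G ⟶ G') (y : 𝒳.obj) :
    Γ(G.obj.obj y, ⊤) →ₗ[Γ(StMod.sch 𝒳 y, ⊤)] Γ(G'.obj.obj y, ⊤) where
  toFun := (a.hom.app y).app ⊤
  map_add' := map_add _
  map_smul' r v := Scheme.Modules.Hom.app_smul (a.hom.app y) r v

theorem appLin_mapTop {G G' : StMod.QCoh 𝒳} (a : G ⟶ G') {y' y : 𝒳.obj} (f : y' ⟶ y) (x : Γ(G.obj.obj y, ⊤)) :
    G'.obj.mapTop f (appLin a y x) = appLin a y' (G.obj.mapTop f x) :=
  StMod.Mod.mapTop_app a.hom f x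

variable {x₀ : 𝒳.obj} (hp : FibCat.IsFibGrpd 𝒳.p)

include hp in
/-- The preimage of the image of a morphism. -/
theorem exists_preimage (P : PairAtlas x₀) (hd : IsDenseObj x₀) {K G H : StMod.QCoh 𝒳} (a : K ⟶ H) (b : G ⟶ H) :
    ∃ (L : StMod.QCoh 𝒳) (ι : L ⟶ G), ∀ p : FMem x₀, Function.Injective (appLin ι p.1) ∧
      ∀ g, (g ∈ LinearMap.range (appLin ι p.1)) ↔ appLin b p.1 g ∈ LinearMap.range (appLin a p.1) := by
  let D : ∀ p : FMem x₀, Submodule Γ(StMod.sch 𝒳 p.1, ⊤) Γ(G.obj.obj p.1, ⊤) := fun p =>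
    (LinearMap.range (appLin a p.1)).comap (appLin b p.1)
  let N : DSys (Subtype.val : FMem x₀ → 𝒳.obj) :=
    { obj := fun p => D p
      res := fun {p q} f => AddMonoidHom.mk' (fun x => ⟨G.obj.mapTop f x.1, by
          obtain ⟨k, hk⟩ := x.2
          exact ⟨K.obj.mapTop f k, by rw [← appLin_mapTop, hk, appLin_mapTop]⟩⟩)
        fun x y => Subtype.ext (G.obj.mapTop_add f x.1 y.1)
      res_smul := fun f r x => Subtype.ext (G.obj.mapTop_smul f r x.1)
      res_id := fun p x => Subtype.ext (G.obj.mapTop_id _ x.1)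
      res_comp := fun f g x => Subtype.ext (G.obj.mapTop_comp f g x.1) }
  have hfl : FlatBC N := fun p q f hf => by
    refine ⟨N.res_smul f, ?_⟩
    obtain ⟨LK, hLK⟩ := exists_tensor_map (σ := fn f) _ (isSemiBC_mapTop K f p.2.1 q.2.1).choose
    obtain ⟨LG, hLG⟩ := exists_tensor_map (σ := fn f) _ (isSemiBC_mapTop G f p.2.1 q.2.1).choose
    obtain ⟨LH, hLH⟩ := exists_tensor_map (σ := fn f) _ (isSemiBC_mapTop H f p.2.1 q.2.1).choose
    obtain ⟨T, hT⟩ := exists_tensor_map (σ := fn f) (N.res (t' := p) (t := q) f) (N.res_smul f)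
    letI := (fn f).toAlgebra
    haveI : Module.Flat Γ(StMod.sch 𝒳 q.1, ⊤) Γ(StMod.sch 𝒳 p.1, ⊤) := flat_fn f p.2.1 q.2.1 hf
    have hι : ∀ t, (T t).1 = LG ((D q).subtype.lTensor _ t) := fun t => by
      induction t using TensorProduct.induction_on with
      | zero => simp
      | add u v hu hv => rw [map_add, map_add, map_add, ← hu, ← hv]; rfl
      | tmul r x =>
        rw [LinearMap.lTensor_tmul, hLG, hT]
        rfl
    refine (isSemiBC_of_bijective' (N.res_smul f) T hT ⟨fun s s' h => ?_, fun y => ?_⟩).2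
    · refine Module.Flat.lTensor_preserves_injective_linearMap _ (D q).injective_subtype ?_
      exact (bijective_of_isSemiBC (isSemiBC_mapTop G f p.2.1 q.2.1) LG hLG).1
        (((hι s).symm.trans (congrArg Subtype.val h)).trans (hι s'))
    · have hb : ∀ t, appLin b p.1 (LG t) = LH ((appLin b q.1).lTensor _ t) := fun t => by
        induction t using TensorProduct.induction_on with
        | zero => simp
        | add u v hu hv => simp only [map_add, hu, hv]
        | tmul r x =>
          rw [LinearMap.lTensor_tmul, hLG, hLH, map_smul]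
          exact congrArg (r • ·) (appLin_mapTop b f x).symm
      have ha : ∀ t, appLin a p.1 (LK t) = LH ((appLin a q.1).lTensor _ t) := fun t => by
        induction t using TensorProduct.induction_on with
        | zero => simp
        | add u v hu hv => simp only [map_add, hu, hv]
        | tmul r x =>
          rw [LinearMap.lTensor_tmul, hLK, hLH, map_smul]
          exact congrArg (r • ·) (appLin_mapTop a f x).symm
      obtain ⟨y, k, hk⟩ := y
      obtain ⟨t, rfl⟩ := (bijective_of_isSemiBC (isSemiBC_mapTop G f p.2.1 q.2.1) LG hLG).2 y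
      obtain ⟨s, rfl⟩ := (bijective_of_isSemiBC (isSemiBC_mapTop K f p.2.1 q.2.1) LK hLK).2 k
      rw [ha, hb] at hk
      have h1 := (bijective_of_isSemiBC (isSemiBC_mapTop H f p.2.1 q.2.1) LH hLH).1 hk
      let R := LinearMap.range (appLin a q.1)
      have hex : Function.Exact (D q).subtype (R.mkQ.comp (appLin b q.1)) := fun g => by
        refine Iff.trans (Submodule.Quotient.mk_eq_zero R) ⟨fun h => ⟨⟨g, h⟩, rfl⟩, ?_⟩
        rintro ⟨x, rfl⟩
        exact x.2
      have h2 : (R.mkQ.comp (appLin b q.1)).lTensor Γ(StMod.sch 𝒳 p.1, ⊤) t = 0 := by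
        rw [LinearMap.lTensor_comp_apply, ← h1, ← LinearMap.lTensor_comp_apply,
          show R.mkQ.comp (appLin a q.1) = 0 from
            LinearMap.ext fun x => (Submodule.Quotient.mk_eq_zero R).2 ⟨x, rfl⟩]
        simp
      obtain ⟨t', ht'⟩ := (Module.Flat.lTensor_exact Γ(StMod.sch 𝒳 p.1, ⊤) hex t).1 h2
      exact ⟨t', Subtype.ext ((hι t').trans (congrArg LG ht'))⟩
  obtain ⟨L, θ, hθb, hθl, hθn⟩ := exists_qcoh_of_flatBC hp P hd N hfl
  obtain ⟨ι, hι⟩ := exists_hom_of_flatMem hp P hd (G := L) (G' := G)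
    (m := fun p => (D p).subtype.toAddMonoidHom.comp (θ p))
    ⟨fun p r x => congrArg Subtype.val (hθl p r x), fun {p q} f x => (congrArg Subtype.val (hθn f x)).symm⟩
  refine ⟨L, ι, fun p => ⟨fun x y h => (hθb p).1 (Subtype.ext ?_), fun g => ⟨?_, fun h => ?_⟩⟩⟩
  · exact (hι p x).symm.trans (h.trans (hι p y))
  · rintro ⟨x, rfl⟩
    rw [show appLin ι p.1 x = (θ p x).1 from hι p x]
    exact (θ p x).2
  · obtain ⟨x, hx⟩ := (hθb p).2 ⟨g, h⟩
    exact ⟨x, (hι p x).trans (congrArg Subtype.val hx)⟩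

end Groth.Agent.H9RP
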