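import Groth.Agent.H9RP.CoverAlg
import Groth.Agent.H9RP.SubQCoh
import Groth.Agent.StModLib.CohDescent
import Groth.Agent.StModLib.FinDescent

/-!
# Sections over affine coverings, and descent of finiteness conditions
-/

set_option autoImplicit false
set_option linter.style.haveILetI false
set_option linter.unusedSectionVars false
set_option backward.isDefEq.respectTransparency false
set_option backward.isDefEq.respectTransparency.types false

universe u

open CategoryTheory CategoryTheory.Limits AlgebraicGeometry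
open Groth.Agent.StModLib

noncomputable section

namespace Groth.Agent.H9RP

variable {S : Scheme.{u}} {𝒳 : AlgSt.Cat S}

/-- Restriction as an additive map. -/
abbrev res (G : StMod.QCoh 𝒳) {y x : 𝒳.obj} (f : y ⟶ x) : Γ(G.obj.obj x, ⊤) →+ Γ(G.obj.obj y, ⊤) :=
  AddMonoidHom.mk' (G.obj.mapTop f) (G.obj.mapTop_add f)

theorem res_apply (G : StMod.QCoh 𝒳) {y x : 𝒳.obj} (f : y ⟶ x) (g : Γ(G.obj.obj x, ⊤)) :
    res G f g = G.obj.mapTop f g := rfl

/-- Restrictions between affine objects generate. -/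
theorem mem_span_res (G : StMod.QCoh 𝒳) {y x : 𝒳.obj} (f : y ⟶ x) (hy : IsAffine (StMod.sch 𝒳 y))
    (hx : IsAffine (StMod.sch 𝒳 x)) (g : Γ(G.obj.obj y, ⊤)) :
    g ∈ Submodule.span Γ(StMod.sch 𝒳 y, ⊤) (Set.range (res G f)) := by
  have h := isSemiBC_mapTop G f hy hx
  obtain ⟨L, hL⟩ := exists_tensor_map (σ := fn f) _ h.choose
  obtain ⟨t, rfl⟩ := (bijective_of_isSemiBC h L hL).2 g
  letI := (fn f).toAlgebra
  induction t using TensorProduct.induction_on with
  | zero => rw [map_zero]; exact zero_mem _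
  | add a b ha hb => rw [map_add]; exact add_mem ha hb
  | tmul s m =>
    rw [hL]
    exact Submodule.smul_mem _ s (Submodule.subset_span ⟨m, rfl⟩)

section Cover

variable {J : Type u} {x : 𝒳.obj} {z : J → 𝒳.obj} (φ : ∀ j, z j ⟶ x) (hx : IsAffine (StMod.sch 𝒳 x))
  (hz : ∀ j, IsAffine (StMod.sch 𝒳 (z j))) (hfl : ∀ j, Flat (StMod.bmap 𝒳 (φ j)))
  (hsu : ∀ t : StMod.sch 𝒳 x, ∃ j, t ∈ Set.range (StMod.bmap 𝒳 (φ j)))

include hx hz hfl hsu in
/-- Membership descends along flat affine coverings. -/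
theorem mem_of_affCov (G : StMod.QCoh 𝒳) (P : Submodule Γ(StMod.sch 𝒳 x, ⊤) Γ(G.obj.obj x, ⊤))
    (g : Γ(G.obj.obj x, ⊤))
    (h : ∀ j, res G (φ j) g ∈ Submodule.span Γ(StMod.sch 𝒳 (z j), ⊤) (res G (φ j) '' P)) : g ∈ P := by
  haveI := hx
  haveI := hz
  exact mem_of_cover (B := fun j => Γ(StMod.sch 𝒳 (z j), ⊤)) (σ := fun j => fn (φ j)) (fun j => res G (φ j))
    (fun j => isSemiBC_mapTop G (φ j) (hz j) hx) (fun j => flat_fn (φ j) (hz j) hx (hfl j))
    (exists_prime_of_cover φ hsu) P g h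

include hx hz hfl hsu in
/-- Flat affine coverings separate sections. -/
theorem eq_zero_of_affCov (G : StMod.QCoh 𝒳) (g : Γ(G.obj.obj x, ⊤)) (h : ∀ j, res G (φ j) g = 0) : g = 0 :=
  (Submodule.mem_bot Γ(StMod.sch 𝒳 x, ⊤)).1
    (mem_of_affCov φ hx hz hfl hsu G ⊥ g fun j => by rw [h j]; exact zero_mem _)

include hx hz hfl hsu in
/-- Flatness of sections descends along flat affine coverings. -/
theorem flat_of_affCov (G : StMod.QCoh 𝒳)
    (h : ∀ j, Module.Flat Γ(StMod.sch 𝒳 (z j), ⊤) Γ(G.obj.obj (z j), ⊤)) :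
    Module.Flat Γ(StMod.sch 𝒳 x, ⊤) Γ(G.obj.obj x, ⊤) := by
  haveI := hx
  haveI := hz
  exact flat_of_cover (B := fun j => Γ(StMod.sch 𝒳 (z j), ⊤)) (σ := fun j => fn (φ j)) (fun j => res G (φ j))
    (fun j => isSemiBC_mapTop G (φ j) (hz j) hx) (fun j => flat_fn (φ j) (hz j) hx (hfl j))
    (exists_prime_of_cover φ hsu) h

include hx hz hfl hsu in
/-- Surjectivity descends along flat affine coverings. -/
theorem surjective_of_affCov {G G' : StMod.QCoh 𝒳} (a : G ⟶ G')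
    (h : ∀ j, Function.Surjective ((a.hom.app (z j)).app ⊤)) : Function.Surjective ((a.hom.app x).app ⊤) := by
  intro g
  refine mem_of_affCov φ hx hz hfl hsu G' (LinearMap.range (appLin a x)) g fun j => ?_
  obtain ⟨e, he⟩ := h j (res G' (φ j) g)
  rw [← he]
  refine Submodule.span_induction (p := fun e _ => (a.hom.app (z j)).app ⊤ e ∈ Submodule.span _ _) ?_ ?_ ?_ ?_
    (mem_span_res G (φ j) (hz j) hx e)
  · rintro _ ⟨m, rfl⟩
    exact Submodule.subset_span ⟨appLin a x m, ⟨m, rfl⟩, StMod.Mod.mapTop_app a.hom (φ j) m⟩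
  · exact (map_zero (appLin a (z j))).symm ▸ zero_mem _
  · intro p q _ _ hp hq
    rw [show (a.hom.app (z j)).app ⊤ (p + q) = _ from map_add (appLin a (z j)) p q]
    exact add_mem hp hq
  · intro r p _ hp
    rw [show (a.hom.app (z j)).app ⊤ (r • p) = _ from map_smul (appLin a (z j)) r p]
    exact Submodule.smul_mem _ r hp

end Cover

/-- The comparison of a quasi-coherent module with its pullback. -/
def pullIso (G : StMod.QCoh 𝒳) {y x : 𝒳.obj} (f : y ⟶ x) :
    (Scheme.Modules.pullback (StMod.bmap 𝒳 f)).obj (G.obj.obj x) ≅ G.obj.obj y :=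
  haveI := G.property.1 f (g := StMod.bmap 𝒳 f) rfl
  asIso (((Scheme.Modules.pullbackPushforwardAdjunction (StMod.bmap 𝒳 f)).homEquiv _ _).symm (G.obj.map f rfl))

/-- Single faithfully flat affine morphisms are fpqc coverings. -/
theorem mem_fpqc_single {X Y : Scheme.{u}} (f : X ⟶ Y) [Flat f] [Surjective f] [QuasiCompact f] :
    Presieve.ofArrows (fun _ : PUnit.{u + 1} => X) (fun _ => f) ∈ Scheme.fpqcPrecoverage Y := by
  refine ⟨?_, ?_⟩
  · have h : (PreZeroHypercover.mk PUnit.{u + 1} (fun _ => X) (fun _ => f)).presieve₀ ∈ Scheme.qcPrecoverage Y := by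
      refine Scheme.presieve₀_mem_qcPrecoverage_iff.2 ⟨fun {V} hV => ?_⟩
      refine IsCompactOpenCovered.of_finite (fun _ : Unit => PUnit.unit) (fun _ => f ⁻¹ᵁ V)
        (fun _ => f.isCompact_preimage hV.isCompact) ?_
      rw [Set.iUnion_const]
      exact Set.image_preimage_eq _ f.surjective
    exact h
  · rw [Scheme.ofArrows_mem_precoverage_iff]
    exact ⟨fun y => ⟨PUnit.unit, f.surjective y⟩, fun _ => inferInstance⟩

/-- A property of modules, local for fpqc coverings and stable under pullback, holds everywhere as soon as it holds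
on an object through which all affine objects factor after a faithfully flat affine covering. -/
theorem forall_of_cover (hp : FibCat.IsFibGrpd 𝒳.p) (Q : ∀ ⦃X : Scheme.{u}⦄, X.Modules → Prop)
    (hiso : ∀ ⦃X : Scheme.{u}⦄ {M N : X.Modules}, (M ≅ N) → Q M → Q N)
    (hpull : ∀ ⦃X Y : Scheme.{u}⦄ (f : X ⟶ Y) {M : Y.Modules}, Coh.IsQCoh M → Q M →
      Q ((Scheme.Modules.pullback f).obj M))
    (hdesc : ∀ ⦃X : Scheme.{u}⦄ {ι : Type u} {Xi : ι → Scheme.{u}} (f : ∀ i, Xi i ⟶ X),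
      Presieve.ofArrows Xi f ∈ Scheme.fpqcPrecoverage X → ∀ {M : X.Modules}, Coh.IsQCoh M →
      (∀ i, Q ((Scheme.Modules.pullback (f i)).obj M)) → Q M)
    (G : StMod.QCoh 𝒳) {x₁ : 𝒳.obj} (h₁ : Q (G.obj.obj x₁))
    (hcov : ∀ z : 𝒳.obj, IsAffine (StMod.sch 𝒳 z) → ∃ (w : 𝒳.obj) (f : w ⟶ z) (_ : w ⟶ x₁),
      IsAffine (StMod.sch 𝒳 w) ∧ Flat (StMod.bmap 𝒳 f) ∧ Surjective (StMod.bmap 𝒳 f))
    (ξ : 𝒳.obj) : Q (G.obj.obj ξ) := by
  obtain ⟨κ, z, φ, hc, ha, -⟩ := exists_affine_cover hp ξ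
  refine hdesc (fun i => StMod.bmap 𝒳 (φ i)) (mem_fpqcPrecoverage _ hc.flat hc.lfp hc.surj) (G.property.2 ξ)
    fun i => hiso (pullIso G (φ i)).symm ?_
  obtain ⟨w, f, g, hw, hfl, hsu⟩ := hcov (z i) (ha i)
  haveI := ha i
  haveI := hw
  haveI := hfl
  haveI := hsu
  refine hdesc (fun _ : PUnit.{u + 1} => StMod.bmap 𝒳 f) (mem_fpqc_single _) (G.property.2 (z i))
    fun _ => hiso (pullIso G f).symm ?_
  exact hiso (pullIso G g) (hpull _ (G.property.2 x₁) h₁)

end Groth.Agent.H9RP
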