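import Groth.Agent.H9RP.AffCase
import Groth.Agent.Chow17.Sigma
import Groth.Agent.H9Misc.DimOneDiag
import Groth.Agent.CurveCohLib.SubBundle
import Groth.Agent.AlgStLib.Stack
import Groth.Agent.AlgStLib.Charts

/-!
# The resolution property of stacks covered affinely and flatly by regular schemes of dimension at most one
-/

set_option autoImplicit false
set_option linter.style.haveILetI false
set_option backward.isDefEq.respectTransparency false
set_option backward.isDefEq.respectTransparency.types false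

universe u

open CategoryTheory CategoryTheory.Limits AlgebraicGeometry AlgSp
open Groth.Agent.AlgStLib Groth.Agent.AlgSpLib Groth.Agent.FibBase Groth.Agent.StModLib

noncomputable section

namespace Groth.Agent.H9RP

/-- A finite affine open cover gives an affine flat surjection from an affine scheme which is an isomorphism on
local rings. -/
theorem exists_affine_cover_map (X : Scheme.{u}) [IsNoetherian X] (hdim : topologicalKrullDim X ≤ 1) :
    ∃ (X' : Scheme.{u}) (v : X' ⟶ X), IsAffine X' ∧ IsNoetherian X' ∧ IsAffineHom v ∧ Flat v ∧ Surjective v ∧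
      ∀ x, IsIso (v.stalkMap x) := by
  haveI hΔ : IsAffineHom (pullback.diagonal (terminal.from X)) :=
    H9Misc.DimOneDiag.isAffineHom_diagonal _ hdim
  let 𝒰 := X.affineCover.finiteSubcover
  have hι : ∀ i, IsAffineHom (𝒰.f i) := fun i => by
    refine ⟨fun V hV => ?_⟩
    rw [← (𝒰.f i).isAffineOpen_iff_of_isOpenImmersion, Scheme.Hom.image_preimage_eq_opensRange_inf]
    exact (isAffineOpen_opensRange (𝒰.f i)).inf hV
  haveI := hι
  refine ⟨_, Sigma.desc 𝒰.f, inferInstance, ?_, Chow17.isAffineHom_sigmaDesc 𝒰.f,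
    IsZariskiLocalAtSource.sigmaDesc (P := @Flat) fun i => inferInstance, ⟨fun x => ?_⟩, fun x => ?_⟩
  · haveI : ∀ i, IsNoetherian (𝒰.X i) := fun i => by
      haveI : IsLocallyNoetherian (𝒰.X i) := isLocallyNoetherian_of_isOpenImmersion (𝒰.f i)
      exact {}
    haveI : LocallyOfFiniteType (Sigma.desc 𝒰.f) := Chow17.locallyOfFiniteType_sigmaDesc 𝒰.f
    haveI : IsLocallyNoetherian (∐ 𝒰.X) := LocallyOfFiniteType.isLocallyNoetherian (Sigma.desc 𝒰.f)
    exact {}
  · obtain ⟨i, y, hy⟩ := 𝒰.exists_eq x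
    exact ⟨Sigma.ι 𝒰.X i y, by rw [← Scheme.Hom.comp_apply, Sigma.ι_desc]; exact hy⟩
  · obtain ⟨i, y, rfl⟩ := Chow17.exists_sigmaι x
    have h1 : IsIso ((Sigma.ι 𝒰.X i ≫ Sigma.desc 𝒰.f).stalkMap y) := by
      rw [Sigma.ι_desc]
      infer_instance
    rw [Scheme.Hom.stalkMap_comp] at h1
    exact IsIso.of_isIso_comp_right _ ((Sigma.ι 𝒰.X i).stalkMap y)

/-- The local rings of the ring of an affine scheme. -/
theorem regDimLeOne_of_stalks (X : Scheme.{u}) [IsAffine X] [IsNoetherian X]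
    (h : ∀ x : X, IsRegularLocalRing (X.presheaf.stalk x) ∧ ringKrullDim (X.presheaf.stalk x) ≤ 1) :
    RegDimLeOne Γ(X, ⊤) := by
  refine ⟨IsLocallyNoetherian.component_noetherian ⟨⊤, isAffineOpen_top X⟩, fun P hP => ?_⟩
  have hU := isAffineOpen_top X
  let x : X := hU.fromSpec (⟨P, hP.isPrime⟩ : PrimeSpectrum Γ(X, ⊤))
  letI := X.presheaf.algebra_section_stalk (⟨x, trivial⟩ : (⊤ : X.Opens))
  haveI : IsLocalization.AtPrime (X.presheaf.stalk x) P :=
    hU.isLocalization_stalk' ⟨P, hP.isPrime⟩ trivial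
  let e : X.presheaf.stalk x ≃+* Localization.AtPrime P :=
    (IsLocalization.algEquiv P.primeCompl (X.presheaf.stalk x) (Localization.AtPrime P)).toRingEquiv
  haveI := (h x).1
  exact ⟨IsRegularLocalRing.of_ringEquiv e, (ringKrullDim_eq_of_ringEquiv e).symm ▸ (h x).2⟩

variable {S : Scheme.{u}} {𝒳 : AlgSt.Cat S}

/-- The resolution property of stacks covered by regular schemes of dimension at most one. -/
theorem resolution_of_dim_le_one (h𝒳 : AlgSt.IsAlgStack Scheme.fppfPrecoverage 𝒳)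
    (U : Over S) [IsNoetherian U.left] (hreg : ∀ x : U.left, IsRegularLocalRing (U.left.presheaf.stalk x))
    (hdim : topologicalKrullDim U.left ≤ 1) (u : FibCat.overCat U ⥤ᵇ 𝒳)
    (hua : AlgSt.RepByAlgSpWith AlgSp.IsAffineMor u) (huf : AlgSt.RepByAlgSpWith (AlgSp.LocP @Flat) u)
    (hus : AlgSt.RepByAlgSpWith AlgSp.IsSurjectiveMor u) :
    (∀ F : StMod.QCoh 𝒳, F.obj.IsFinType →
        ∃ (E : StMod.QCoh 𝒳) (q : E ⟶ F), E.obj.IsLocFree ∧ E.obj.IsFinType ∧ StMod.Mod.IsSurj q.hom) ∧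
      (∀ (M N : StMod.QCoh 𝒳) (a b : M ⟶ N),
        (∀ E : StMod.QCoh 𝒳, E.obj.IsLocFree → E.obj.IsFinType → ∀ φ : E ⟶ M, φ ≫ a = φ ≫ b) → a = b) := by
  obtain ⟨X', v, hX', hN, hva, hvf, hvs, hiso⟩ := exists_affine_cover_map U.left hdim
  let U' : Over S := Over.mk (v ≫ U.hom)
  let k : U' ⟶ U := Over.homMk v rfl
  haveI : IsAffine U'.left := hX'
  have hk1 : AlgSt.RepByAlgSpWith IsAffineMor (AlgSt.overMap k) := repByAlgSpWith_overMap stableBC_isAffineMor
    (Groth.Agent.AlgSpDec.isAffineMor_of_repWith le_rfl ((repWith_yon_map_iff @IsAffineHom k).2 hva))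
  have hk2 : AlgSt.RepByAlgSpWith (LocP @Flat) (AlgSt.overMap k) := repByAlgSpWith_overMap stableBC_locP
    (locP_of_repWith ((repWith_yon_map_iff @Flat k).2 hvf))
  have hk3 : AlgSt.RepByAlgSpWith IsSurjectiveMor (AlgSt.overMap k) := repByAlgSpWith_overMap stableBC_isSurjectiveMor
    (surjective_map_of_repWith ((repWith_yon_map_iff @Surjective k).2 hvs))
  let u' := BasedFunctor.comp (AlgSt.overMap k) u
  obtain ⟨D⟩ := nonempty_setup h𝒳 u'
    (repByAlgSpWith_isAffineMor_comp (isFibGrpd_overCat U') (isFibGrpd_overCat U) hk1 hua)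
    (repByAlgSpWith_locP_comp (isFibGrpd_overCat U') (isFibGrpd_overCat U) hk2 huf)
    (repByAlgSpWith_isSurjectiveMor_comp (isFibGrpd_overCat U') (isFibGrpd_overCat U) hk3 hus)
  haveI := D.affX₁
  let ε : StMod.sch 𝒳 (u'.obj (topU U')) ⟶ X' := eqToHom (StMod.sch_obj_eq u' (topU U'))
  haveI : IsIso ε := inferInstanceAs (IsIso (eqToHom _))
  haveI := hN
  haveI : IsLocallyNoetherian (StMod.sch 𝒳 (u'.obj (topU U'))) := isLocallyNoetherian_of_isOpenImmersion ε
  haveI : IsNoetherian (StMod.sch 𝒳 (u'.obj (topU U'))) := {}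
  have hA := regDimLeOne_of_stalks (StMod.sch 𝒳 (u'.obj (topU U'))) fun x => by
    haveI := hiso (ε x)
    let e : U.left.presheaf.stalk (v (ε x)) ≃+* (StMod.sch 𝒳 (u'.obj (topU U'))).presheaf.stalk x :=
      (asIso (v.stalkMap (ε x) ≫ ε.stalkMap x)).commRingCatIsoToRingEquiv
    haveI := hreg (v (ε x))
    exact ⟨IsRegularLocalRing.of_ringEquiv e, (ringKrullDim_eq_of_ringEquiv e) ▸
      (CurveCohLib.ringKrullDim_stalk_le_topologicalKrullDim _).trans hdim⟩
  exact ⟨fun F hF => exists_vb_quot D hA F hF, fun M N a b h => hom_eq_of_vb D hA M N a b h⟩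

end Groth.Agent.H9RP
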