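import Groth.Agent.H9RP.CoverMod
import Groth.Agent.StModLib.RelTrans
import Groth.Agent.StModLib.PushQCoh

/-!
# The unit into a pushforward, and morphisms into pushforwards
-/

set_option autoImplicit false
set_option linter.style.haveILetI false
set_option linter.unusedSectionVars false
set_option backward.isDefEq.respectTransparency false
set_option backward.isDefEq.respectTransparency.types false

universe u

open CategoryTheory CategoryTheory.Limits AlgebraicGeometry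
open Groth.Agent.StModLib

noncomputable section

namespace Groth.Agent.H9RP

variable {S : Scheme.{u}} {𝒵 𝒳 : AlgSt.Cat S} (π : 𝒵 ⥤ᵇ 𝒳)

theorem appTop_baseOver_cmp (ξ : 𝒵.obj) {p : 𝒳.obj} (β : π.obj ξ ⟶ p) (r : Γ(StMod.sch 𝒳 p, ⊤)) :
    (eqToHom (StMod.sch_obj_eq π ξ)).appTop ((StMod.baseOver π ξ β).left.appTop r) = (StMod.bmap 𝒳 β).appTop r := by
  show (eqToHom (StMod.sch_obj_eq π ξ) ≫ (StMod.baseOver π ξ β).left).appTop r = _
  have e : ∀ {A B : Over S} (e : A = B), eqToHom (congrArg (fun C : Over S => C.left) e) = (eqToHom e).left := by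
    rintro A B rfl
    rfl
  rw [show eqToHom (StMod.sch_obj_eq π ξ) = (eqToHom (π.w_obj ξ)).left from e (π.w_obj ξ), ← Over.comp_left]
  show (eqToHom (π.w_obj ξ) ≫ eqToHom (π.w_obj ξ).symm ≫ 𝒳.p.map β).left.appTop r = _
  rw [eqToHom_trans_assoc, eqToHom_refl, Category.id_comp]
  rfl

/-- The unit of the pushforward on sections. -/
def unitLin (F : StMod.QCoh 𝒳) (p : 𝒳.obj) :
    Γ(F.obj.obj p, ⊤) →ₗ[Γ(StMod.sch 𝒳 p, ⊤)] StMod.Mod.RelSect π ((StMod.comapQ π).obj F).obj p where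
  toFun g := ⟨fun ξ β => (cmp π F.obj ξ).symm (F.obj.mapTop β g), fun ξ' ξ φ β => (cmp π F.obj ξ').injective (by
    show cmp π F.obj ξ' ((StMod.Mod.comap π F.obj).mapTop φ _) = _
    rw [cmp_mapTop, AddEquiv.apply_symm_apply, AddEquiv.apply_symm_apply, StMod.Mod.mapTop_comp])⟩
  map_add' g g' := StMod.Mod.RelSect.ext π _ _ fun ξ β => by
    show (cmp π F.obj ξ).symm (F.obj.mapTop β (g + g')) = _
    rw [StMod.Mod.mapTop_add, map_add]
    rfl
  map_smul' r g := StMod.Mod.RelSect.ext π _ _ fun ξ β => (cmp π F.obj ξ).injective (by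
    show cmp π F.obj ξ ((cmp π F.obj ξ).symm (F.obj.mapTop β (r • g))) =
      cmp π F.obj ξ ((StMod.baseOver π ξ β).left.appTop r • (cmp π F.obj ξ).symm (F.obj.mapTop β g))
    rw [cmp_smul, AddEquiv.apply_symm_apply, AddEquiv.apply_symm_apply, StMod.Mod.mapTop_smul,
      appTop_baseOver_cmp])

theorem unitLin_val (F : StMod.QCoh 𝒳) (p : 𝒳.obj) (g : Γ(F.obj.obj p, ⊤)) (ξ : 𝒵.obj) (β : π.obj ξ ⟶ p) :
    (unitLin π F p g).1 ξ β = (cmp π F.obj ξ).symm (F.obj.mapTop β g) := rfl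

theorem relRes_unitLin (F : StMod.QCoh 𝒳) {q p : 𝒳.obj} (f : q ⟶ p) (g : Γ(F.obj.obj p, ⊤)) :
    relRes f _ (unitLin π F p g) = unitLin π F q (F.obj.mapTop f g) :=
  StMod.Mod.RelSect.ext π _ _ fun ξ β => by
    rw [relRes_val, unitLin_val, unitLin_val, StMod.Mod.mapTop_comp]

variable {x₀ : 𝒳.obj} (hp : FibCat.IsFibGrpd 𝒳.p)

/-- A pushforward, known over the flat members. -/
structure Pushed (x₀ : 𝒳.obj) (E : StMod.QCoh 𝒵) where
  /-- the module -/
  mod : StMod.QCoh 𝒳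
  /-- its sections -/
  θ : ∀ p : FMem x₀, Γ(mod.obj.obj p.1, ⊤) →+ StMod.Mod.RelSect π E.obj p.1
  bij : ∀ p, Function.Bijective (θ p)
  lin : ∀ (p : FMem x₀) (r : Γ(StMod.sch 𝒳 p.1, ⊤)) (x : Γ(mod.obj.obj p.1, ⊤)), θ p (r • x) = r • θ p x
  nat : ∀ {p q : FMem x₀} (f : p.1 ⟶ q.1) (x : Γ(mod.obj.obj q.1, ⊤)), θ p (mod.obj.mapTop f x) =
    relRes f E.obj (θ q x)

include hp in
theorem nonempty_pushed (P : PairAtlas x₀) (hd : IsDenseObj x₀) (hz : FibCat.IsFibGrpd 𝒵.p)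
    (hpres : ∀ η : 𝒳.obj, IsAffine (StMod.sch 𝒳 η) → Nonempty (Pres π η)) (E : StMod.QCoh 𝒵) :
    Nonempty (Pushed π x₀ E) := by
  obtain ⟨G, θ, hb, hl, hn⟩ := exists_push hp P hd hz π hpres E
  exact ⟨⟨G, θ, hb, hl, hn⟩⟩

variable {π}

include hp in
/-- Natural linear families into the sections define morphisms into the pushforward. -/
theorem Pushed.exists_hom (P : PairAtlas x₀) (hd : IsDenseObj x₀) {E : StMod.QCoh 𝒵} (K : Pushed π x₀ E)
    {G : StMod.QCoh 𝒳}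
    (m : ∀ p : FMem x₀, Γ(G.obj.obj p.1, ⊤) →ₗ[Γ(StMod.sch 𝒳 p.1, ⊤)] StMod.Mod.RelSect π E.obj p.1)
    (hm : ∀ {p q : FMem x₀} (f : p.1 ⟶ q.1) (x : Γ(G.obj.obj q.1, ⊤)),
      relRes f E.obj (m q x) = m p (G.obj.mapTop f x)) :
    ∃ a : G ⟶ K.mod, ∀ (p : FMem x₀) (x : Γ(G.obj.obj p.1, ⊤)), K.θ p (appLin a p.1 x) = m p x := by
  choose k hk using fun (p : FMem x₀) (x : Γ(G.obj.obj p.1, ⊤)) => (K.bij p).2 (m p x)
  obtain ⟨a, ha⟩ := exists_hom_of_flatMem hp P hd (G := G) (G' := K.mod)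
    (m := fun p => AddMonoidHom.mk' (k p) fun x y => (K.bij p).1 (by rw [hk, map_add, map_add, hk, hk]))
    ⟨fun p r x => (K.bij p).1 (by
        show K.θ p (k p (r • x)) = K.θ p (r • k p x)
        rw [hk, K.lin, hk, map_smul]),
      fun {p q} f x => (K.bij p).1 (by
        show K.θ p (K.mod.obj.mapTop f (k q x)) = K.θ p (k p (G.obj.mapTop f x))
        rw [K.nat, hk, hk, hm])⟩
  exact ⟨a, fun p x => (congrArg (K.θ p) (ha p x)).trans (hk p x)⟩

end Groth.Agent.H9RP
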